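import Cfsg.Agent.Lib.FusionIndex.Setup
import Cfsg.Agent.Lib.Fusion.Centric

/-!
The abelian subgroups of index `p` with non-normal Sylow subgroup in their automizer.
-/

set_option autoImplicit false

namespace Cfsg.Agent.Lib.FusionIndex

open Cfsg Cfsg.FusionSystem Cfsg.Agent.Lib.Fusion
open scoped commutatorElement

universe u

variable {Ω : Type u} [Group Ω] {S : Subgroup Ω} {F : FusionSystem S} {p : ℕ}

/-- A subgroup between the centre and `S` some automorphism of which does not normalize the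
automorphisms induced by `S`. -/
def Good (F : FusionSystem S) (E : Subgroup Ω) : Prop :=
  Mid S E ∧ ∃ β ∈ F.autGroup E, ∃ x ∈ S, ∀ y ∈ S, ∃ e e' : E,
    (e' : Ω) = x * (e : Ω) * x⁻¹ ∧ ((β e' : E) : Ω) ≠ y * ((β e : E) : Ω) * y⁻¹

/-- The fixed points of the elements of order `p` of the automizer. -/
def fixE (F : FusionSystem S) (p : ℕ) (E : Subgroup Ω) : Subgroup Ω :=
  (fixC p (F.autGroup E)).map E.subtype

/-- What is used about a good subgroup. -/
structure EData (F : FusionSystem S) (p : ℕ) (E : Subgroup Ω) where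
  w : Ω
  wE : w ∈ E
  w_ne : w ∉ centralizerIn S S
  w_pow : w ^ p = 1
  Cle : fixE F p E ≤ centralizerIn S S
  Cdisj : ∀ c ∈ fixE F p E, c ∈ ⁅S, S⁆ → c = 1
  Zdec : ∀ z ∈ centralizerIn S S, ∃ c ∈ fixE F p E, ∃ d ∈ ⁅S, S⁆, z = c * d
  Edec : ∀ e ∈ E, ∃ c ∈ fixE F p E, ∃ d ∈ ⁅S, S⁆, ∃ i : ℤ, e = c * d * w ^ i
  split : ∀ β ∈ F.autGroup E, ∃ γ ∈ F.autGroup S, ∀ (e : E) (eS : S), (eS : Ω) = e →
    ((γ eS : S) : Ω) ∈ E ∧ ((γ eS : S) : Ω)⁻¹ * ((β e : E) : Ω) ∈ ⁅S, S⁆ ⊔ Subgroup.zpowers w ∧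
      (((γ eS : S) : Ω) ∈ fixE F p E → ((β e : E) : Ω) = ((γ eS : S) : Ω))
  inversion : ∃ γ ∈ F.autGroup S, (∀ c : S, (c : Ω) ∈ fixE F p E → ((γ c : S) : Ω) = c) ∧
    (∀ d : S, (d : Ω) ∈ ⁅S, S⁆ → ((γ d : S) : Ω) = (d : Ω)⁻¹) ∧
    ∀ v : S, (v : Ω) = w → ((γ v : S) : Ω) = w⁻¹

variable [Finite S] [Fact p.Prime] (hS : IsPGroup p S) (hF : F.IsSaturated p)
  (hZ : (centralizerIn S S).relIndex S = p ^ 2)

include hS hF hZ

theorem mid_of_essential {E : Subgroup Ω} (hE : F.IsEssential p E) : Mid S E := by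
  have hlt := ne_top_of_essential hS hF hE
  have hc := centralizer_le_of_isCentric hE.1
  refine ⟨lt_of_le_of_ne (fun z hz => hc (mem_centralizerIn.2 ⟨(mem_zs.1 hz).1,
    fun x hx => (mem_zs.1 hz).2 x (hlt.le hx)⟩)) fun h => hlt.not_ge fun s hs => hc (mem_centralizerIn.2 ⟨hs,
      fun x hx => ?_⟩), hlt⟩
  rw [← h] at hx
  exact ((mem_zs.1 hx).2 s hs).symm

theorem good_of_essential {E : Subgroup Ω} (hE : F.IsEssential p E) : Good F E := by
  have hmid := mid_of_essential hS hF hZ hE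
  refine ⟨hmid, ?_⟩
  by_contra hcon
  push Not at hcon
  refine extGroup_ne_of_essential hS hF hE (le_antisymm (extGroup_le_autGroup E) fun β hβ => Subgroup.subset_closure ?_)
  obtain ⟨x, hx, hxE⟩ := SetLike.exists_of_lt hmid.2
  have hxN : x ∈ normalizerIn S E := by rw [mid_normalizerIn hZ hmid]; exact hx
  refine mem_extSet_of_conj (fullyNormalized_props hS hF hE.2.1).2 hβ hxN hxE ?_
  obtain ⟨y, hy, hye⟩ := hcon β hβ x hx
  refine mem_autInducedBy.2 ⟨y, hy, fun e => ?_⟩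
  rw [congr_eq_conj, MulAut.mul_apply, MulAut.mul_apply]
  have h := hye (β⁻¹ e) (conjAut E hxN.2 (β⁻¹ e)) (conjAut_apply E hxN.2 _)
  rw [h, MulAut.apply_inv_self]

theorem mid_fullyNormalized {E : Subgroup Ω} (hE : Mid S E) : F.IsFullyNormalized E :=
  ⟨hE.2.le, fun Q _ => by
    rw [mid_normalizerIn hZ hE]
    exact Nat.card_le_card_of_injective _ (Subgroup.inclusion_injective (normalizerIn_le S Q))⟩

theorem good_data {E : Subgroup Ω} (hE : Good F E) : Nonempty (EData F p E) := by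
  obtain ⟨hmid, β₀, hβ₀, x₀, hx₀, hne⟩ := hE
  have hES := hmid.2.le
  have := finite_of_le hES
  have := finite_mulAut (S := S) hES
  have := mid_isMulCommutative hZ hmid
  have hnorm := mid_normalizerIn hZ hmid
  have hSN : S ≤ Subgroup.normalizer (E : Set Ω) := hnorm.ge.trans inf_le_right
  obtain ⟨x, hx, hxE⟩ := SetLike.exists_of_lt hmid.2
  set a : MulAut E := conjAut E (hSN hx) with ha
  set A := F.autGroup E with hAdef
  have haI : a ∈ autInducedBy S E := conjAut_mem_autInducedBy hx (hSN hx)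
  have hind : ∀ α ∈ autInducedBy S E, α ∈ Subgroup.zpowers a := by
    intro α hα
    obtain ⟨g, hg, hge⟩ := mem_autInducedBy.1 hα
    let K : Subgroup S := (Subgroup.zpowers a).comap (actHom hSN)
    have hEK : E < K.map S.subtype := by
      refine lt_of_le_of_ne (fun e he => ⟨⟨e, hES he⟩, ?_, rfl⟩) fun h => hxE ?_
      · show actHom hSN _ ∈ Subgroup.zpowers a
        convert one_mem (Subgroup.zpowers a)
        ext y
        rw [actHom_apply, MulAut.one_apply]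
        show e * (y : Ω) * e⁻¹ = y
        rw [mid_comm hZ hmid he y.2, mul_inv_cancel_right]
      · rw [h]
        exact ⟨⟨x, hx⟩, Subgroup.mem_comap.2 (Subgroup.mem_zpowers a), rfl⟩
    have hK := eq_of_between (S := S) (mid_index hZ hmid).2 hEK (Subgroup.map_subtype_le K) le_rfl
    obtain ⟨g', hg', hgg⟩ := hK.ge hg
    obtain rfl : g' = ⟨g, hg⟩ := Subtype.ext hgg
    convert (Subgroup.mem_comap.1 hg') using 1
    ext y
    rw [actHom_apply, hge]
  have haA : a ∈ A := autInducedBy_le_autGroup hES haI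
  have hsyl := (isFullyAutomized_iff.1 (fullyNormalized_props hS hF (mid_fullyNormalized hS hF hZ hmid)).1).2
  have ha1 : a ≠ 1 := by
    intro h
    refine hxE (mid_centralizer hZ hmid hx fun e he => ?_)
    have h1 := conjAut_apply E (hSN hx) ⟨e, he⟩
    rw [← ha, h, MulAut.one_apply] at h1
    exact (mul_inv_eq_iff_eq_mul.1 h1.symm).symm
  -- the displacement of `a`
  have hdisp : ∀ e : E, ((e⁻¹ * a e : E) : Ω) ∈ ⁅S, S⁆ := by
    intro e
    have h := Subgroup.commutator_mem_commutator (S.inv_mem (hES e.2)) hx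
    rw [commutatorElement_def, inv_inv] at h
    simpa [mul_assoc, conjAut_apply, ha] using h
  obtain ⟨e₀, he₀, he₀Z⟩ := SetLike.exists_of_lt hmid.1
  obtain ⟨hD, hd1, hdp⟩ := mid_commutator hZ hmid hx hxE he₀ he₀Z
  have hDE : ⁅S, S⁆ ≤ E := by
    rw [hD, Subgroup.zpowers_le]
    exact hmid.1.le (quotient_comm hZ hx (hES he₀))
  let u₀ : E := ⟨⁅x, e₀⁆, hDE (hD ▸ Subgroup.mem_zpowers _)⟩
  have hta : IsTv p a u₀ := by
    refine ⟨fun h => hd1 (congrArg Subtype.val h), Subtype.ext hdp, Subtype.ext ?_, fun m => ?_⟩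
    · rw [conjAut_apply]
      show x * ⁅x, e₀⁆ * x⁻¹ = ⁅x, e₀⁆
      rw [← zs_comm (quotient_comm hZ hx (hES he₀)) hx, mul_inv_cancel_right]
    · have h := hdisp m
      rw [hD] at h
      obtain ⟨i, hi⟩ := Subgroup.mem_zpowers_iff.1 h
      exact Subgroup.mem_zpowers_iff.2 ⟨i, Subtype.ext hi⟩
  have hap : a ^ p = 1 := by
    have hpow : ∀ (n : ℕ) (m : E), (a ^ n) m = m * (m⁻¹ * a m) ^ n := by
      intro n
      induction n with
      | zero => intro m; simp
      | succ n ih =>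
        intro m
        rw [pow_succ', MulAut.mul_apply, ih, map_mul, map_pow]
        obtain ⟨i, hi⟩ := Subgroup.mem_zpowers_iff.1 (hta.2.2.2 m)
        rw [show a (m⁻¹ * a m) = m⁻¹ * a m by rw [← hi, map_zpow, hta.2.2.1], pow_succ', ← mul_assoc _ (m⁻¹ * a m),
          mul_inv_cancel_left]
    ext m
    rw [hpow]
    obtain ⟨i, hi⟩ := Subgroup.mem_zpowers_iff.1 (hta.2.2.2 m)
    rw [← hi, ← zpow_natCast, ← zpow_mul, mul_comm, zpow_mul, zpow_natCast, hta.2.1, one_zpow, mul_one]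
    rfl
  have hao : orderOf a = p := orderOf_eq_prime hap ha1
  have hAI : autInducedBy S E = Subgroup.zpowers a :=
    le_antisymm hind (Subgroup.zpowers_le.2 haI)
  rw [hAI] at hsyl
  have hT : Nat.card (hsyl.toSylow : Subgroup A) = p := by
    rw [hsyl.coe_toSylow, Nat.card_congr (Subgroup.subgroupOfEquivOfLe hsyl.1).toEquiv, Nat.card_zpowers, hao]
  have hA : IsTvGroup p A := by
    refine ⟨fun c hc hcp hc1 => ?_, fun c hc d hd hcp hdp hc1 hcd => ?_⟩
    · have hcP : IsPGroup p (Subgroup.zpowers c) := IsPGroup.of_card (n := 1) (by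
        rw [Nat.card_zpowers, orderOf_eq_prime hcp hc1, pow_one])
      obtain ⟨k, hk, hkc⟩ := hsyl.exists_conj_le (Subgroup.zpowers_le.2 hc) hcP
      obtain ⟨i, hi⟩ := Subgroup.mem_zpowers_iff.1 (hkc c (Subgroup.mem_zpowers c))
      have hce : c = k⁻¹ * a ^ i * k⁻¹⁻¹ := by rw [hi]; group
      have ht : IsTv p (a ^ i) u₀ := by
        obtain ⟨h1, h2, h3, h4⟩ := hta
        let K : Subgroup (MulAut E) :=
          { carrier := {g | g u₀ = u₀ ∧ ∀ m, m⁻¹ * g m ∈ Subgroup.zpowers u₀}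
            one_mem' := ⟨rfl, fun m => by simp⟩
            mul_mem' := fun {g g'} hg hg' => ⟨by rw [MulAut.mul_apply, hg'.1, hg.1], fun m => by
              have := mul_mem (hg'.2 m) (hg.2 (g' m))
              simpa [mul_assoc] using this⟩
            inv_mem' := fun {g} hg => ⟨by
                conv_lhs => rw [← hg.1, MulAut.inv_apply_self], fun m => by
              have := Subgroup.inv_mem _ (hg.2 (g⁻¹ m))
              rw [MulAut.apply_inv_self, mul_inv_rev, inv_inv] at this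
              exact this⟩ }
        have hK := K.zpow_mem (show a ∈ K from ⟨h3, h4⟩) i
        exact ⟨h1, h2, hK.1, hK.2⟩
      exact ⟨_, hce ▸ ht.conj k⁻¹⟩
    · by_cases hd1' : d = 1
      · rw [hd1']; exact one_mem _
      have hco : orderOf c = p := orderOf_eq_prime hcp hc1
      have hle : Subgroup.zpowers c ⊔ Subgroup.zpowers d ≤ A :=
        sup_le (Subgroup.zpowers_le.2 hc) (Subgroup.zpowers_le.2 hd)
      have hdn : Subgroup.zpowers d ≤ Subgroup.normalizer (Subgroup.zpowers c : Set (MulAut E)) := by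
        refine Subgroup.zpowers_le.2 (Subgroup.mem_normalizer_iff.2 fun y => ?_)
        have : ∀ z ∈ Subgroup.zpowers c, d * z * d⁻¹ = z := fun z hz => by
          obtain ⟨i, rfl⟩ := Subgroup.mem_zpowers_iff.1 hz
          rw [(hcd.symm.zpow_right i).eq, mul_inv_cancel_right]
        refine ⟨fun hy => (this y hy).symm ▸ hy, fun hy => ?_⟩
        have h1 := this _ hy
        have h2 : d * y * d⁻¹ = y := mul_left_cancel (mul_right_cancel h1)
        rwa [h2] at hy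
      have hP : IsPGroup p ↥(Subgroup.zpowers c ⊔ Subgroup.zpowers d : Subgroup (MulAut E)) :=
        IsPGroup.to_sup_of_normal_left'
          (IsPGroup.of_card (n := 1) (by rw [Nat.card_zpowers, hco, pow_one]))
          (IsPGroup.of_card (n := 1) (by rw [Nat.card_zpowers, orderOf_eq_prime hdp hd1', pow_one])) hdn
      obtain ⟨T, hTle⟩ := (isPGroup_subgroupOf (K := A) hP).exists_le_sylow
      have hcard : Nat.card ↥(Subgroup.zpowers c ⊔ Subgroup.zpowers d : Subgroup (MulAut E)) ≤ p := by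
        calc Nat.card ↥(Subgroup.zpowers c ⊔ Subgroup.zpowers d : Subgroup (MulAut E))
            = Nat.card ↥((Subgroup.zpowers c ⊔ Subgroup.zpowers d).subgroupOf A) :=
              (Nat.card_congr (Subgroup.subgroupOfEquivOfLe hle).toEquiv).symm
          _ ≤ Nat.card T := Subgroup.card_le_of_le hTle
          _ = p := (Nat.card_congr (T.equiv hsyl.toSylow).toEquiv).trans hT
      have heq := eq_of_le_of_natCard_le (P := Subgroup.zpowers c) le_sup_left (hcard.trans_eq (by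
        rw [Nat.card_zpowers, hco]))
      exact heq ▸ Subgroup.mem_sup_right (Subgroup.mem_zpowers d)
  -- a second element of order `p`
  have hx₀a : conjAut E (hSN hx₀) ∈ Subgroup.zpowers a := hind _ (conjAut_mem_autInducedBy hx₀ _)
  have hnot : β₀ * a * β₀⁻¹ ∉ Subgroup.zpowers a := by
    intro h
    obtain ⟨k, hk⟩ := Subgroup.mem_zpowers_iff.1 hx₀a
    obtain ⟨y, hy, hye⟩ := mem_autInducedBy.1 (hAI ▸ Subgroup.zpow_mem _ h k :
      (β₀ * a * β₀⁻¹) ^ k ∈ autInducedBy S E)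
    obtain ⟨e, e', hee, hne'⟩ := hne y hy
    refine hne' ?_
    rw [← hye, conj_zpow, hk, MulAut.mul_apply, MulAut.mul_apply, MulAut.inv_apply_self]
    exact congrArg (fun z => ((β₀ z : E) : Ω)) (Subtype.ext (hee.trans (conjAut_apply E (hSN hx₀) e).symm))
  obtain ⟨P⟩ := exists_tvPair hA haA hap ha1 (mul_mem (mul_mem hβ₀ haA) (inv_mem hβ₀)) (pow_conj_eq_one β₀ hap) hnot
  have hfix : ∀ c : E, c ∈ fixC p A ↔ a c = c ∧ P.b c = c := fun c => P.mem_fixC hA haA hap ha1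
  have hZ_a : ∀ e : E, a e = e ↔ (e : Ω) ∈ centralizerIn S S := by
    intro e
    constructor
    · intro h
      by_contra heZ
      refine (mid_commutator hZ hmid hx hxE e.2 heZ).2.1 ?_
      rw [commutatorElement_eq_one_iff_mul_comm]
      have h1 := conjAut_apply E (hSN hx) e
      rw [← ha, h] at h1
      exact mul_inv_eq_iff_eq_mul.1 h1.symm
    · intro h
      apply Subtype.ext
      rw [conjAut_apply, ← zs_comm h hx, mul_inv_cancel_right]
  have hPu : Subgroup.zpowers P.u = Subgroup.zpowers u₀ := by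
    refine zpowers_eq_of_mem hta.2.1 ?_ P.ta.1
    rw [show P.u = P.w⁻¹ * a P.w by rw [P.haw]; simp]
    exact hta.2.2.2 _
  have huD : ∀ e : E, e ∈ Subgroup.zpowers P.u → (e : Ω) ∈ ⁅S, S⁆ := fun e he => by
    rw [hPu] at he
    obtain ⟨i, rfl⟩ := Subgroup.mem_zpowers_iff.1 he
    rw [hD]
    exact Subgroup.zpow_mem _ (Subgroup.mem_zpowers _) i
  have hDu : ∀ e : E, (e : Ω) ∈ ⁅S, S⁆ → e ∈ Subgroup.zpowers P.u := fun e he => by
    rw [hPu]
    rw [hD] at he
    obtain ⟨i, hi⟩ := Subgroup.mem_zpowers_iff.1 he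
    exact Subgroup.mem_zpowers_iff.2 ⟨i, Subtype.ext hi⟩
  have hEd : ∀ e : E, ∃ c : E, c ∈ fixC p A ∧ ∃ d : E, (d : Ω) ∈ ⁅S, S⁆ ∧ ∃ i : ℤ, e = c * d * P.w ^ i := by
    intro e
    obtain ⟨c, i, j, h1, h2, rfl⟩ := P.decomp e
    exact ⟨c, (hfix c).2 ⟨h1, h2⟩, _, huD _ (Subgroup.zpow_mem _ (Subgroup.mem_zpowers _) i), j, rfl⟩
  have hCle : fixE F p E ≤ centralizerIn S S := by
    rintro _ ⟨c, hc, rfl⟩
    exact (hZ_a c).1 ((hfix c).1 hc).1
  refine ⟨⟨(P.w : Ω), P.w.2, fun h => P.ta.1 ?_, congrArg Subtype.val P.tb.2.1, hCle, ?_, ?_, ?_, ?_, ?_⟩⟩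
  · have := (hZ_a P.w).2 h
    rwa [P.haw, mul_eq_left] at this
  · rintro _ ⟨c, hc, rfl⟩ hcD
    obtain ⟨i, rfl⟩ := Subgroup.mem_zpowers_iff.1 (hDu c hcD)
    by_contra hne1
    have hi : P.u ^ i ≠ 1 := fun h => hne1 (congrArg Subtype.val h)
    have hz := zpowers_eq_of_mem P.ta.2.1 (Subgroup.zpow_mem _ (Subgroup.mem_zpowers _) i) hi
    obtain ⟨k, hk⟩ := Subgroup.mem_zpowers_iff.1 (hz.symm ▸ Subgroup.mem_zpowers P.u : P.u ∈ Subgroup.zpowers (P.u ^ i))
    have h1 := P.hbu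
    rw [← hk, map_zpow, ((hfix _).1 hc).2, hk, left_eq_mul, inv_eq_one] at h1
    exact P.tb.1 h1
  · intro z hz
    obtain ⟨c, hc, d, hd, i, hi⟩ := hEd ⟨z, hmid.1.le hz⟩
    have hwi : P.w ^ i = 1 := by
      by_contra hw
      have hzw := zpowers_eq_of_mem P.tb.2.1 (Subgroup.zpow_mem _ (Subgroup.mem_zpowers _) i) hw
      have h1 : a (P.w ^ i) = P.w ^ i := by
        refine (hZ_a _).2 ?_
        have h2 : ((P.w ^ i : E) : Ω) = ((c * d)⁻¹ * ⟨z, hmid.1.le hz⟩ : E) := by rw [hi, inv_mul_cancel_left]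
        rw [h2]
        exact mul_mem (inv_mem (mul_mem (hCle ⟨c, hc, rfl⟩) (Subgroup.commutator_le.2
          (fun a ha b hb => quotient_comm hZ ha hb) hd))) hz
      obtain ⟨k, hk⟩ := Subgroup.mem_zpowers_iff.1 (hzw.symm ▸ Subgroup.mem_zpowers P.w : P.w ∈ Subgroup.zpowers (P.w ^ i))
      have h3 := P.haw
      rw [← hk, map_zpow, h1, hk, left_eq_mul] at h3
      exact P.ta.1 h3
    rw [hwi, mul_one] at hi
    exact ⟨c, ⟨c, hc, rfl⟩, d, hd, congrArg Subtype.val hi⟩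
  · intro e he
    obtain ⟨c, hc, d, hd, i, hi⟩ := hEd ⟨e, he⟩
    exact ⟨c, ⟨c, hc, rfl⟩, d, hd, i, by simpa using congrArg Subtype.val hi⟩
  all_goals
    have hextend : ∀ h ∈ A, h * a * h⁻¹ ∈ Subgroup.zpowers a →
        ∃ γ ∈ F.autGroup S, ∀ (e : E) (eS : S), (eS : Ω) = e → ((γ eS : S) : Ω) = (h e : E) := by
      intro h hh hha
      have hle : (autInducedBy S E).map (MulAut.congr h).toMonoidHom ≤ autInducedBy S E := by
        rw [hAI, MonoidHom.map_zpowers, Subgroup.zpowers_le]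
        rwa [MulEquiv.coe_toMonoidHom, congr_eq_conj]
      obtain ⟨ψ, hψ, hψN, hψe⟩ := exists_extend_of_congr_le
        (fullyNormalized_props hS hF (mid_fullyNormalized hS hF hZ hmid)).2 ((mem_autGroup hES).1 hh) hle
      obtain ⟨γ, hγ, hγe⟩ := exists_aut_of_self_map (restrict_mem hnorm.ge hψ) (fun s => val_mem hψ _)
      refine ⟨γ, hγ, fun e eS he => ?_⟩
      rw [hγe]
      have heS : eS = ⟨(e : Ω), hES e.2⟩ := Subtype.ext he
      subst heS
      exact hψe e (hnorm.ge (hES e.2))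
  · intro β hβ
    obtain ⟨g, hg, hgn⟩ := P.exists_normalizing hA haA hap ha1 hβ
    obtain ⟨γ, hγ, hγe⟩ := hextend _ (mul_mem (inv_mem (P.L_le haA hg)) hβ) hgn
    refine ⟨γ, hγ, fun e eS he => ?_⟩
    have h1 := hγe e eS he
    refine ⟨h1 ▸ SetLike.coe_mem _, ?_, fun hc => ?_⟩
    · rw [h1]
      have h2 := (P.L_move hg).2 ((g⁻¹ * β) e)
      rw [MulAut.mul_apply, MulAut.apply_inv_self] at h2
      obtain ⟨i, j, hij⟩ := P.mem_V.1 h2
      rw [MulAut.mul_apply]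
      have h3 := congrArg Subtype.val hij
      simp only [Subgroup.coe_mul, Subgroup.coe_inv] at h3
      rw [h3]
      exact mul_mem (Subgroup.mem_sup_left (huD _ (Subgroup.zpow_mem _ (Subgroup.mem_zpowers _) i)))
        (Subgroup.mem_sup_right (by rw [Subgroup.coe_zpow]; exact Subgroup.zpow_mem _ (Subgroup.mem_zpowers _) j))
    · rw [h1] at hc ⊢
      obtain ⟨c, hcC, hce⟩ := hc
      obtain rfl : c = (g⁻¹ * β) e := Subtype.ext hce
      obtain ⟨h3, h4⟩ := (hfix _).1 hcC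
      have h5 := (P.L_move hg).1 _ h3 h4
      rw [MulAut.mul_apply, MulAut.apply_inv_self] at h5
      rw [MulAut.mul_apply, ← h5]
  · obtain ⟨t, htL, htu, htw, hta'⟩ := P.exists_inversion
    obtain ⟨γ, hγ, hγe⟩ := hextend t (P.L_le haA htL) (by
      rw [hta'.eq, mul_inv_cancel_right]; exact Subgroup.mem_zpowers a)
    refine ⟨γ, hγ, fun c hc => ?_, fun d hd => ?_, fun v hv => ?_⟩
    · obtain ⟨c', hc', hcc⟩ := hc
      rw [hγe c' c hcc.symm, (P.L_move htL).1 c' ((hfix _).1 hc').1 ((hfix _).1 hc').2]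
      exact hcc
    · rw [hγe ⟨d, hDE hd⟩ d rfl]
      obtain ⟨i, hi⟩ := Subgroup.mem_zpowers_iff.1 (hDu ⟨d, hDE hd⟩ hd)
      rw [← hi, map_zpow, htu, inv_zpow, Subgroup.coe_inv, hi]
    · rw [hγe P.w v hv, htw, Subgroup.coe_inv]

/-- An automorphism of `S` carries good subgroups and their fixed subgroups along. -/
theorem good_map {σ : MulAut S} (hσ : σ ∈ F.autGroup S) {E : Subgroup Ω} (hE : Good F E) :
    ∃ E', Good F E' ∧ (∀ e : S, ((σ e : S) : Ω) ∈ E' ↔ (e : Ω) ∈ E) ∧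
      ∀ c : S, (c : Ω) ∈ fixE F p E → ((σ c : S) : Ω) ∈ fixE F p E' := by
  obtain ⟨hmid, β, hβ, x, hx, hne⟩ := hE
  have hES := hmid.2.le
  obtain ⟨E', hE'm, f, hf, hfe⟩ : ∃ E' : Subgroup Ω,
      (∀ y, y ∈ E' ↔ ∃ e : S, (e : Ω) ∈ E ∧ ((σ e : S) : Ω) = y) ∧
      ∃ f : E ≃* E', IsIso F f ∧ ∀ x : E, (f x : Ω) = (σ ⟨x, hES x.2⟩ : S) :=
    ⟨(E.subgroupOf S).map (S.subtype.comp σ.toMonoidHom), fun _ => Iff.rfl,
      exists_iso_restrict hES ((mem_autGroup le_rfl).1 hσ)⟩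
  have hfσ : ∀ (e : E) (eS : S), (eS : Ω) = e → (f e : Ω) = (σ eS : S) := by
    intro e eS he
    rw [hfe]
    have heS : eS = ⟨(e : Ω), hES e.2⟩ := Subtype.ext he
    subst heS
    rfl
  have hE'S : E' ≤ S := hf.tgt_le
  have hmid' : Mid S E' := by
    refine ⟨lt_of_le_of_ne (fun z hz => ?_) fun h => ?_, lt_of_le_of_ne hE'S fun h => hmid.2.not_ge fun s hs => ?_⟩
    · refine (hE'm z).2 ⟨σ.symm ⟨z, (mem_zs.1 hz).1⟩, hmid.1.le (mem_zs.2 ⟨SetLike.coe_mem _, fun s hs => ?_⟩), by simp⟩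
      show ((⟨s, hs⟩ * σ.symm ⟨z, _⟩ : S) : Ω) = ((σ.symm ⟨z, _⟩ * ⟨s, hs⟩ : S) : Ω)
      congr 1
      apply σ.injective
      rw [map_mul, map_mul, MulEquiv.apply_symm_apply]
      exact Subtype.ext ((mem_zs.1 hz).2 _ (SetLike.coe_mem _))
    · obtain ⟨e, he, heZ⟩ := SetLike.exists_of_lt hmid.1
      refine heZ (mem_zs.2 ⟨hES he, fun s hs => ?_⟩)
      have h1 : ((σ ⟨e, hES he⟩ : S) : Ω) ∈ centralizerIn S S := h ▸ (hE'm _).2 ⟨⟨e, hES he⟩, he, rfl⟩
      have h2 := (mem_zs.1 h1).2 (σ ⟨s, hs⟩ : S) (SetLike.coe_mem _)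
      exact congrArg Subtype.val (σ.injective (Subtype.ext (by simpa only [map_mul, Subgroup.coe_mul] using h2) :
        σ (⟨s, hs⟩ * ⟨e, hES he⟩) = σ (⟨e, hES he⟩ * ⟨s, hs⟩)))
    · obtain ⟨y, hy, hye⟩ := (hE'm _).1 (h.ge (show ((σ ⟨s, hs⟩ : S) : Ω) ∈ S from SetLike.coe_mem _))
      obtain rfl : y = ⟨s, hs⟩ := σ.injective (Subtype.ext hye)
      exact hy
  have hauto : ∀ α ∈ F.autGroup E, MulAut.congr f α ∈ F.autGroup E' := by
    intro α hα
    rw [show MulAut.congr f α = (f.symm.trans α).trans f from MulEquiv.ext fun _ => rfl]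
    exact (mem_autGroup hE'S).2 ((hf.symm.trans ((mem_autGroup hES).1 hα)).trans hf)
  refine ⟨E', ⟨hmid', MulAut.congr f β, hauto β hβ, (σ ⟨x, hx⟩ : S), SetLike.coe_mem _, fun y hy => ?_⟩,
    fun e => ⟨fun he => ?_, fun he => (hE'm _).2 ⟨e, he, rfl⟩⟩, ?_⟩
  · obtain ⟨e, e', hee, hne'⟩ := hne (σ.symm ⟨y, hy⟩ : S) (SetLike.coe_mem _)
    refine ⟨f e, f e', ?_, fun hcon => hne' ?_⟩
    · rw [hfσ e' (⟨x, hx⟩ * ⟨e, hES e.2⟩ * (⟨x, hx⟩ : S)⁻¹) hee.symm, hfσ e ⟨e, hES e.2⟩ rfl, map_mul, map_mul,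
        map_inv]
      rfl
    · simp only [MulAut.congr_apply, MulEquiv.trans_apply, MulEquiv.symm_apply_apply] at hcon
      have e1 := hfσ (β e') ⟨_, hES (β e').2⟩ rfl
      have e2 := hfσ (β e) ⟨_, hES (β e).2⟩ rfl
      have hcon' : f (β e') = f (β e') := rfl
      have h3 : σ (⟨_, hES (β e').2⟩ : S) = ⟨y, hy⟩ * σ (⟨_, hES (β e).2⟩ : S) * (⟨y, hy⟩ : S)⁻¹ := by
        apply Subtype.ext
        rw [← e1]
        show _ = y * _ * y⁻¹
        rw [← e2]
        exact hcon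
      have h4 := congrArg (fun z => ((σ.symm z : S) : Ω)) h3
      simpa using h4
  · obtain ⟨e', he', hee⟩ := (hE'm _).1 he
    obtain rfl : e' = e := σ.injective (Subtype.ext hee)
    exact he'
  · rintro c ⟨c', hc', hcc⟩
    refine ⟨f c', fun α hα hαp => ?_, hfσ c' c hcc.symm⟩
    have hα' : MulAut.congr f.symm α ∈ F.autGroup E := by
      rw [show MulAut.congr f.symm α = (f.trans α).trans f.symm from MulEquiv.ext fun _ => rfl]
      exact (mem_autGroup hES).2 ((hf.trans ((mem_autGroup hE'S).1 hα)).trans hf.symm)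
    have h1 := hc' _ hα' (by rw [← map_pow, hαp, map_one])
    have h2 := congrArg f h1
    simp only [MulAut.congr_apply, MulEquiv.trans_apply, MulEquiv.symm_symm, MulEquiv.apply_symm_apply] at h2
    exact h2

end Cfsg.Agent.Lib.FusionIndex
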