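import Cfsg.Agent.Lib.FusionIndex.Data
import Cfsg.Agent.Lib.Fusion.Normal
import Cfsg.Agent.Lib.Involution.Basic

/-!
Core-free systems equal to their hyperfocal subgroup over a group whose centre has index at most `p²`.
-/

set_option autoImplicit false

namespace Cfsg.Agent.Lib.FusionIndex

open Cfsg Cfsg.FusionSystem Cfsg.Agent.Lib.Fusion
open scoped commutatorElement

universe u

variable {Ω : Type u} [Group Ω] {S : Subgroup Ω} {F : FusionSystem S} {p : ℕ}
  [Finite S] [Fact p.Prime]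

theorem commutator_eq_map : ⁅S, S⁆ = (commutator ↥S).map S.subtype := by
  rw [commutator_def, Subgroup.map_commutator, ← MonoidHom.range_eq_map, S.range_subtype]

theorem aut_commutator (σ : MulAut S) {d : S} (hd : (d : Ω) ∈ ⁅S, S⁆) : ((σ d : S) : Ω) ∈ ⁅S, S⁆ := by
  rw [commutator_eq_map] at hd ⊢
  obtain ⟨d', hd', he⟩ := hd
  obtain rfl : d' = d := Subtype.ext he
  refine ⟨σ d', ?_, rfl⟩
  have := Subgroup.characteristic_iff_comap_eq.1 (inferInstance : (commutator ↥S).Characteristic) σ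
  exact this.ge hd'

theorem fixE_le (E : Subgroup Ω) : fixE F p E ≤ E := Subgroup.map_subtype_le _

omit [Finite S] [Fact p.Prime] in
theorem move_pow {σ : MulAut S} {z : S} (h : σ (z⁻¹ * σ z) = z⁻¹ * σ z) (n : ℕ) :
    (σ ^ n) z = z * (z⁻¹ * σ z) ^ n := by
  induction n with
  | zero => simp
  | succ n ih =>
    rw [pow_succ', MulAut.mul_apply, ih, map_mul, map_pow, h, pow_succ', ← mul_assoc, ← mul_assoc]
    simp

theorem exists_pow_inn (hS : IsPGroup p S) (hF : F.IsSaturated p) {σ : MulAut S} (hσ : σ ∈ F.autGroup S) :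
    ∃ n : ℕ, n.Coprime p ∧ σ ^ n ∈ Inn S ∧ ((∃ k : ℕ, σ ^ p ^ k = 1) → σ ∈ Inn S) := by
  have := finite_mulAut (S := S) (le_refl S)
  have hn := inn_subgroupOf_normal S (F.autGroup S)
  set Q := F.autGroup S ⧸ (Inn S).subgroupOf (F.autGroup S)
  have hcop : (Nat.card Q).Coprime p :=
    ((Fact.out : p.Prime).coprime_iff_not_dvd.2 (not_dvd_out_top hS hF)).symm
  let q : Q := QuotientGroup.mk ⟨σ, hσ⟩
  refine ⟨Nat.card Q, hcop, ?_, fun ⟨k, hk⟩ => ?_⟩
  · have h := pow_card_eq_one' (x := q)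
    rw [← QuotientGroup.mk_pow, QuotientGroup.eq_one_iff] at h
    exact h
  · have h1 : q ^ p ^ k = 1 := by
      rw [← QuotientGroup.mk_pow, show (⟨σ, hσ⟩ : F.autGroup S) ^ p ^ k = 1 from Subtype.ext hk]
      rfl
    have h2 : orderOf q = 1 := Nat.eq_one_of_dvd_coprimes (hcop.pow_right k) (orderOf_dvd_natCard q)
      (orderOf_dvd_of_pow_eq_one h1)
    rw [orderOf_eq_one_iff, QuotientGroup.eq_one_iff] at h2
    exact h2

omit [Finite S] [Fact p.Prime] in
theorem inn_fix_center {σ : MulAut S} (hσ : σ ∈ Inn S) {z : S} (hz : (z : Ω) ∈ centralizerIn S S) :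
    σ z = z := by
  obtain ⟨g, rfl⟩ := hσ
  apply Subtype.ext
  show (g : Ω) * (z : Ω) * (g : Ω)⁻¹ = z
  rw [← zs_comm hz g.2, mul_inv_cancel_right]

theorem pow_eq_one_of_coprime (hS : IsPGroup p S) {x : S} {n : ℕ} (hn : n.Coprime p) (h : x ^ n = 1) :
    x = 1 := by
  obtain ⟨k, hk⟩ := hS x
  exact orderOf_eq_one_iff.1 (Nat.eq_one_of_dvd_coprimes (hn.pow_right k)
    (orderOf_dvd_of_pow_eq_one h) (orderOf_dvd_of_pow_eq_one hk))

/-- An automorphism fixing `D` and inducing the identity modulo `D` fixes the centre. -/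
theorem fix_center_of_fix (hS : IsPGroup p S) (hF : F.IsSaturated p) {σ : MulAut S} (hσ : σ ∈ F.autGroup S)
    {z : S} (hz : (z : Ω) ∈ centralizerIn S S) (h : σ (z⁻¹ * σ z) = z⁻¹ * σ z) : σ z = z := by
  obtain ⟨n, hn, hI, -⟩ := exists_pow_inn hS hF hσ
  have h1 := inn_fix_center hI hz
  rw [move_pow h, mul_eq_left] at h1
  exact (inv_mul_eq_one.1 (pow_eq_one_of_coprime hS hn h1)).symm

theorem core_free_contra (hcore : F.core = ⊥) {Q : Subgroup Ω} (hQ : F.IsNormal Q) : Q = ⊥ :=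
  le_bot_iff.1 (hcore ▸ (le_sSup hQ : Q ≤ sSup {Q : Subgroup Ω | F.IsNormal Q}))

theorem relIndex_center_eq (hS : IsPGroup p S) (hF : F.IsSaturated p) (hS1 : S ≠ ⊥) (hcore : F.core = ⊥)
    (hZ : (Subgroup.center ↥S).index ≤ p ^ 2) : (centralizerIn S S).relIndex S = p ^ 2 := by
  have hidx : (centralizerIn S S).relIndex S = (Subgroup.center ↥S).index := by
    rw [← zs_subgroupOf]; rfl
  have hnab : ¬ ∀ a b : S, a * b = b * a := by
    intro hab
    refine hS1 (core_free_contra hcore (isNormal_of_essential hS hF (Q := S) fun P hP => ?_))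
    rcases hP with rfl | hP
    · exact ⟨le_rfl, fun α _ x _ => SetLike.coe_mem _⟩
    · exfalso
      have hlt := ne_top_of_essential hS hF hP
      exact hlt.not_ge fun s hs => centralizer_le_of_isCentric hP.1 (mem_centralizerIn.2
        ⟨hs, fun x hx => congrArg Subtype.val (hab ⟨x, hlt.le hx⟩ ⟨s, hs⟩)⟩)
  obtain ⟨k, hk⟩ := (IsPGroup.iff_card (p := p)).1 (hS.to_quotient (Subgroup.center ↥S))
  rw [hidx]
  change (Subgroup.center ↥S).index = p ^ k at hk
  rw [hk] at hZ ⊢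
  have hk2 : k ≤ 2 := (Nat.pow_le_pow_iff_right (Fact.out : p.Prime).one_lt).1 hZ
  interval_cases k
  · exfalso
    refine hnab fun a b => ?_
    have h : Subgroup.center ↥S = ⊤ := Subgroup.index_eq_one.1 (by simpa using hk)
    exact Subgroup.mem_center_iff.1 (h ▸ Subgroup.mem_top b) a
  · exfalso
    have : IsCyclic (↥S ⧸ Subgroup.center ↥S) := isCyclic_of_prime_card (hk.trans (pow_one p))
    exact hnab (commutative_of_cyclic_center_quotient (QuotientGroup.mk' (Subgroup.center ↥S))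
      (QuotientGroup.ker_mk' _).le)
  · rfl

variable (hS : IsPGroup p S) (hF : F.IsSaturated p) (hcore : F.core = ⊥)
  (hZ : (centralizerIn S S).relIndex S = p ^ 2)

include hS hF hcore hZ

theorem exists_good (hS1 : S ≠ ⊥) : ∃ E, Good F E := by
  by_contra hno
  push Not at hno
  refine hS1 (core_free_contra hcore (isNormal_of_essential hS hF (Q := S) fun P hP => ?_))
  rcases hP with rfl | hP
  · exact ⟨le_rfl, fun α _ x _ => SetLike.coe_mem _⟩
  · exact absurd (good_of_essential hS hF hZ hP) (hno P)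

/-- The common fixed subgroup of all good subgroups is trivial. -/
theorem common_fix_trivial {E₀ : Subgroup Ω} (hE₀ : Good F E₀) {c : Ω}
    (hc : ∀ E, Good F E → c ∈ fixE F p E) : c = 1 := by
  let Q : Subgroup Ω :=
    { carrier := {c | ∀ E, Good F E → c ∈ fixE F p E}
      one_mem' := fun E _ => one_mem _
      mul_mem' := fun ha hb E hE => mul_mem (ha E hE) (hb E hE)
      inv_mem' := fun ha E hE => Subgroup.inv_mem _ (ha E hE) }
  suffices hQ : F.IsNormal Q by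
    have h := core_free_contra hcore hQ
    exact Subgroup.mem_bot.1 (h ▸ (hc : c ∈ Q))
  have hQS : Q ≤ S := fun z hz => hE₀.1.2.le (fixE_le E₀ (hz E₀ hE₀))
  have hσQ : ∀ σ ∈ F.autGroup S, ∀ z : S, (z : Ω) ∈ Q → ((σ z : S) : Ω) ∈ Q := by
    intro σ hσ z hz E hE
    obtain ⟨E', hE', hmap', -⟩ := good_map hS hF hZ ((F.autGroup S).inv_mem hσ) hE
    obtain ⟨E'', hE'', hmap, hC⟩ := good_map hS hF hZ hσ hE'
    have heq : E'' = E := by
      ext y
      constructor <;> intro hy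
      · have h := hmap (σ⁻¹ ⟨y, hE''.1.2.le hy⟩)
        rw [MulAut.apply_inv_self] at h
        exact (hmap' ⟨y, hE''.1.2.le hy⟩).1 (h.1 hy)
      · have h := hmap (σ⁻¹ ⟨y, hE.1.2.le hy⟩)
        rw [MulAut.apply_inv_self] at h
        exact h.2 ((hmap' ⟨y, hE.1.2.le hy⟩).2 hy)
    rw [← heq]
    exact hC z (hz E' hE')
  refine isNormal_of_essential hS hF fun P hP => ?_
  rcases hP with rfl | hP
  · exact ⟨hQS, fun α hα x hx => hσQ α hα x hx⟩
  · have hg := good_of_essential hS hF hZ hP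
    obtain ⟨D⟩ := good_data hS hF hZ hg
    refine ⟨fun z hz => fixE_le P (hz P hg), fun β hβ x hx => ?_⟩
    obtain ⟨γ, hγ, h⟩ := D.split β hβ
    obtain ⟨-, -, h3⟩ := h x ⟨(x : Ω), hg.1.2.le x.2⟩ rfl
    have hγQ := hσQ γ hγ ⟨(x : Ω), hg.1.2.le x.2⟩ hx
    rw [h3 (hγQ P hg)]
    exact hγQ

omit hS hF hcore in
theorem comm_mem {a b : Ω} (ha : a ∈ S) (hb : b ∈ S) : ⁅a, b⁆ ∈ centralizerIn S S := quotient_comm hZ ha hb

omit hS hF hcore in
theorem derived_le_zs : ⁅S, S⁆ ≤ centralizerIn S S :=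
  Subgroup.commutator_le.2 fun _ ha _ hb => quotient_comm hZ ha hb

omit hS hF hcore in
theorem good_eq_of_le {E E' : Subgroup Ω} (hE : Good F E) (hE' : Good F E') (h : E' ≤ E) : E' = E :=
  eq_of_between (S := S) (mid_index hZ hE.1).1 hE'.1.1 h hE.1.2.le

omit hS hF hcore in
theorem derived_pow {E : Subgroup Ω} (hE : Good F E) :
    Nat.card ↥⁅S, S⁆ = p ∧ ∀ d ∈ ⁅S, S⁆, d ^ p = 1 := by
  obtain ⟨x, hx, hxE⟩ := SetLike.exists_of_lt hE.1.2
  obtain ⟨e, he, heZ⟩ := SetLike.exists_of_lt hE.1.1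
  obtain ⟨hD, h1, h2⟩ := mid_commutator hZ hE.1 hx hxE he heZ
  rw [hD]
  refine ⟨by rw [Nat.card_zpowers, orderOf_eq_prime h2 h1], fun d hd => ?_⟩
  obtain ⟨i, rfl⟩ := Subgroup.mem_zpowers_iff.1 hd
  rw [← zpow_natCast, ← zpow_mul, mul_comm, zpow_mul, zpow_natCast, h2, one_zpow]

theorem fix_eq_of_odd (hp : p ≠ 2) {E E' : Subgroup Ω} (hE : Good F E) (hE' : Good F E') {c : Ω}
    (hc : c ∈ fixE F p E') : c ∈ fixE F p E := by
  obtain ⟨D⟩ := good_data hS hF hZ hE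
  obtain ⟨D'⟩ := good_data hS hF hZ hE'
  have hcZ := D'.Cle hc
  obtain ⟨c₁, hc₁, d, hd, rfl⟩ := D.Zdec c hcZ
  obtain ⟨γ, hγ, hγC, hγD, -⟩ := D.inversion
  obtain ⟨γ', hγ', hγC', hγD', -⟩ := D'.inversion
  let cS : S := ⟨c₁ * d, (mem_zs.1 hcZ).1⟩
  let c₁S : S := ⟨c₁, (mem_zs.1 (D.Cle hc₁)).1⟩
  let dS : S := ⟨d, (mem_zs.1 (derived_le_zs hZ hd)).1⟩
  have hfix : ∀ x : S, (x : Ω) ∈ ⁅S, S⁆ → (γ * γ') x = x := fun x hx => by
    apply Subtype.ext
    rw [MulAut.mul_apply, hγD _ (aut_commutator γ' hx), hγD' x hx, inv_inv]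
  have himg : (((γ * γ') cS : S) : Ω) = c₁ * d⁻¹ := by
    rw [MulAut.mul_apply, show γ' cS = cS from Subtype.ext (hγC' cS hc), show cS = c₁S * dS from rfl, map_mul,
      Subgroup.coe_mul, hγC c₁S hc₁, hγD dS hd]
  have hk := fix_center_of_fix hS hF ((F.autGroup S).mul_mem hγ hγ') (z := cS) hcZ (hfix _ (by
    rw [Subgroup.coe_mul, Subgroup.coe_inv, himg]
    show (c₁ * d)⁻¹ * (c₁ * d⁻¹) ∈ ⁅S, S⁆
    rw [mul_inv_rev, mul_assoc, inv_mul_cancel_left]
    exact mul_mem (Subgroup.inv_mem _ hd) (Subgroup.inv_mem _ hd)))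
  rw [hk] at himg
  have h2 : d ^ 2 = 1 := by
    have h3 : d = d⁻¹ := mul_left_cancel (himg : c₁ * d = c₁ * d⁻¹)
    rw [sq]
    nth_rewrite 1 [h3]
    rw [inv_mul_cancel]
  have hd1 : d = 1 := by
    rw [← orderOf_eq_one_iff]
    exact Nat.eq_one_of_dvd_coprimes ((Nat.coprime_primes (Fact.out : p.Prime) Nat.prime_two).2 hp)
      (orderOf_dvd_of_pow_eq_one ((derived_pow hZ hE).2 d hd)) (orderOf_dvd_of_pow_eq_one h2)
  rw [hd1, mul_one]
  exact hc₁

omit hcore in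
theorem good_perm {σ : MulAut S} (hσ : σ ∈ F.autGroup S) {E : Subgroup Ω} (hE : Good F E)
    (hfix : ∀ e : S, ((σ e : S) : Ω) ∈ E ↔ (e : Ω) ∈ E) :
    ∀ c : S, (c : Ω) ∈ fixE F p E → ((σ c : S) : Ω) ∈ fixE F p E := by
  obtain ⟨E', hE', hmap, hC⟩ := good_map hS hF hZ hσ hE
  have heq : E' = E := by
    ext y
    constructor <;> intro hy
    · have h := hfix (σ⁻¹ ⟨y, hE'.1.2.le hy⟩)
      have h' := hmap (σ⁻¹ ⟨y, hE'.1.2.le hy⟩)
      rw [MulAut.apply_inv_self] at h h'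
      exact h.2 (h'.1 hy)
    · have h := hfix (σ⁻¹ ⟨y, hE.1.2.le hy⟩)
      have h' := hmap (σ⁻¹ ⟨y, hE.1.2.le hy⟩)
      rw [MulAut.apply_inv_self] at h h'
      exact h'.2 (h.1 hy)
  exact heq ▸ hC

omit hcore in
/-- For `p = 2` there are at most two good subgroups. -/
theorem two_only (h2 : p = 2) {E₁ E₂ E₃ : Subgroup Ω} (h₁ : Good F E₁) (h₂ : Good F E₂) (h₃ : Good F E₃)
    (hne : E₁ ≠ E₂) : E₃ = E₁ ∨ E₃ = E₂ := by
  obtain ⟨D1⟩ := good_data hS hF hZ h₁
  obtain ⟨D2⟩ := good_data hS hF hZ h₂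
  obtain ⟨D3⟩ := good_data hS hF hZ h₃
  subst h2
  by_contra hcon
  rw [not_or] at hcon
  have hmem : ∀ {E E' : Subgroup Ω} (D : EData F 2 E), Good F E → Good F E' → D.w ∈ E' → E ≤ E' := by
    intro E E' D hE hE' hw e he
    obtain ⟨c, hc, d, hd, i, rfl⟩ := D.Edec e he
    exact mul_mem (mul_mem (hE'.1.1.le (D.Cle hc)) (hE'.1.1.le (derived_le_zs hZ hd))) (Subgroup.zpow_mem _ hw i)
  have hw1 : D1.w ∉ E₃ := fun h => hcon.1 (good_eq_of_le hZ h₃ h₁ (hmem D1 h₁ h₃ h)).symm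
  have hw2 : D2.w ∉ E₃ := fun h => hcon.2 (good_eq_of_le hZ h₃ h₂ (hmem D2 h₂ h₃ h)).symm
  have hw21 : D2.w ∉ E₁ := fun h => hne (good_eq_of_le hZ h₁ h₂ (hmem D2 h₂ h₁ h)).symm
  have h1S := h₁.1.2.le D1.wE
  have h2S := h₂.1.2.le D2.wE
  have hx : D1.w * D2.w ∈ E₃ := by
    have hidx : (E₃.subgroupOf S).index = 2 := (mid_index hZ h₃.1).2
    have := (Subgroup.mul_mem_iff_of_index_two hidx (a := ⟨D1.w, h1S⟩) (b := ⟨D2.w, h2S⟩)).2
      ⟨fun h => absurd h hw1, fun h => absurd h hw2⟩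
    exact this
  obtain ⟨c, hc, d, hd, i, hi⟩ := D3.Edec _ hx
  obtain ⟨-, hd1, -⟩ := mid_commutator hZ h₁.1 h2S hw21 D1.wE D1.w_ne
  have hww : ∀ {w : Ω}, w ^ 2 = 1 → w⁻¹ = w := fun {w} h => inv_eq_of_mul_eq_one_right (by rw [← sq, h])
  have hsq : (D1.w * D2.w) * (D1.w * D2.w) = ⁅D1.w, D2.w⁆ := by
    rw [commutatorElement_def, hww D1.w_pow, hww D2.w_pow]
    simp [mul_assoc]
  have hcS := (mem_zs.1 (D3.Cle hc)).1
  have hdS := (mem_zs.1 (derived_le_zs hZ hd)).1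
  have hwS : D3.w ^ i ∈ S := S.zpow_mem (h₃.1.2.le D3.wE) i
  have hsq' : (c * d * D3.w ^ i) * (c * d * D3.w ^ i) = c * c := by
    have hcd := zs_comm (mul_mem (D3.Cle hc) (derived_le_zs hZ hd)) hwS
    have hcd' := zs_comm (D3.Cle hc) hdS
    calc _ = (c * d) * ((D3.w ^ i) * (c * d)) * D3.w ^ i := by simp [mul_assoc]
      _ = (c * d) * (c * d) * (D3.w ^ 2) ^ i := by
        rw [← hcd, sq, (Commute.refl D3.w).mul_zpow]
        simp [mul_assoc]
      _ = c * (c * d) * d := by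
        rw [D3.w_pow, one_zpow, mul_one, mul_assoc c d, ← mul_assoc d c d, ← hcd']
        simp [mul_assoc]
      _ = c * c * (d ^ 2) := by simp [mul_assoc, sq]
      _ = _ := by rw [(derived_pow hZ h₁).2 d hd, mul_one]
  rw [hi, hsq'] at hsq
  have hcc : c * c = 1 := D3.Cdisj _ (mul_mem hc hc)
    (hsq ▸ Subgroup.commutator_mem_commutator h1S h2S)
  rw [hcc, eq_comm, ← inv_eq_one, commutatorElement_inv] at hsq
  exact hd1 hsq

/-- The structure of the centre when `p = 2` and there are two good subgroups. -/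
theorem fix_trivial_two (h2 : p = 2) (hhyp : F.hyperfocalSubgroup p = S) {E₁ E₂ : Subgroup Ω}
    (h₁ : Good F E₁) (h₂ : Good F E₂) (hne : E₁ ≠ E₂) : ∀ c ∈ fixE F p E₁, c = 1 := by
  obtain ⟨D1⟩ := good_data hS hF hZ h₁
  obtain ⟨D2⟩ := good_data hS hF hZ h₂
  have honly : ∀ E, Good F E → E = E₁ ∨ E = E₂ := fun E hE => two_only hS hF hZ h2 h₁ h₂ hE hne
  subst h2
  have hint : ∀ c, c ∈ fixE F 2 E₁ → c ∈ fixE F 2 E₂ → c = 1 := fun c hc1 hc2 =>
    common_fix_trivial hS hF hcore hZ h₁ fun E hE => by rcases honly E hE with rfl | rfl <;> assumption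
  have hD2 : ∀ d ∈ ⁅S, S⁆, d ^ 2 = 1 := (derived_pow hZ h₁).2
  have hDuniq : ∀ d ∈ ⁅S, S⁆, ∀ d' ∈ ⁅S, S⁆, d ≠ 1 → d' ≠ 1 → d = d' := by
    intro d hd d' hd' h h'
    obtain ⟨x, hx, hxE⟩ := SetLike.exists_of_lt h₁.1.2
    obtain ⟨hD, -, hp⟩ := mid_commutator hZ h₁.1 hx hxE D1.wE D1.w_ne
    have key : ∀ e ∈ ⁅S, S⁆, e ≠ 1 → e = ⁅x, D1.w⁆ := by
      intro e he hne
      rw [hD] at he
      obtain ⟨i, rfl⟩ := Subgroup.mem_zpowers_iff.1 he
      rcases Int.even_or_odd' i with ⟨k, rfl | rfl⟩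
      · exact absurd (by rw [zpow_mul, zpow_ofNat, hp, one_zpow]) hne
      · rw [zpow_add, zpow_mul, zpow_ofNat, hp, one_zpow, one_mul, zpow_one]
    rw [key d hd h, key d' hd' h']
  have hC1uniq : ∀ c ∈ fixE F 2 E₁, ∀ c' ∈ fixE F 2 E₁, c ≠ 1 → c' ≠ 1 → c = c' := by
    intro c hc c' hc' h h'
    obtain ⟨a, ha, d, hd, hcd⟩ := D2.Zdec c (D1.Cle hc)
    obtain ⟨a', ha', d', hd', hcd'⟩ := D2.Zdec c' (D1.Cle hc')
    have hd1 : d ≠ 1 := fun e => h (hint c hc (by rw [hcd, e, mul_one]; exact ha))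
    have hd1' : d' ≠ 1 := fun e => h' (hint c' hc' (by rw [hcd', e, mul_one]; exact ha'))
    obtain rfl : d = d' := hDuniq d hd d' hd' hd1 hd1'
    have hq : c⁻¹ * c' = a⁻¹ * a' := by
      have ha'c := zs_comm (derived_le_zs hZ hd) (mem_zs.1 (D2.Cle ha')).1
      have hac := zs_comm (derived_le_zs hZ hd) (mem_zs.1 (D2.Cle ha)).1
      rw [hcd, hcd', ← hac, ← ha'c]
      simp [mul_assoc]
    exact inv_mul_eq_one.1 (hint _ (mul_mem (Subgroup.inv_mem _ hc) hc')
      (hq ▸ mul_mem (Subgroup.inv_mem _ ha) ha'))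
  have hw21 : D2.w ∉ E₁ := fun h => hne (good_eq_of_le hZ h₁ h₂ (fun e he => by
    obtain ⟨c, hc, d, hd, i, rfl⟩ := D2.Edec e he
    exact mul_mem (mul_mem (h₁.1.1.le (D2.Cle hc)) (h₁.1.1.le (derived_le_zs hZ hd)))
      (Subgroup.zpow_mem _ h i))).symm
  have h1S := h₁.1.2.le D1.wE
  have h2S := h₂.1.2.le D2.wE
  -- automorphisms of odd order fixing both subgroups
  have hodd : ∀ τ ∈ F.autGroup S, ∀ n : ℕ, n.Coprime 2 → τ ^ n = 1 →
      (∀ e : S, ((τ e : S) : Ω) ∈ E₁ ↔ (e : Ω) ∈ E₁) → (∀ e : S, ((τ e : S) : Ω) ∈ E₂ ↔ (e : Ω) ∈ E₂) →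
      τ = 1 := by
    intro τ hτ n hn hτn hf1 hf2
    have hC1 := good_perm hS hF hZ hτ h₁ hf1
    have hfixC : ∀ c : S, (c : Ω) ∈ fixE F 2 E₁ → τ c = c := by
      intro c hc
      by_cases h : c = 1
      · rw [h, map_one]
      refine Subtype.ext (hC1uniq _ (hC1 c hc) _ hc ?_ fun e => h (Subtype.ext e))
      intro e
      exact h (τ.injective (by rw [map_one]; exact Subtype.ext e))
    have hfixD : ∀ d : S, (d : Ω) ∈ ⁅S, S⁆ → τ d = d := by
      intro d hd
      by_cases h : d = 1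
      · rw [h, map_one]
      refine Subtype.ext (hDuniq _ (aut_commutator τ hd) _ hd ?_ fun e => h (Subtype.ext e))
      intro e
      exact h (τ.injective (by rw [map_one]; exact Subtype.ext e))
    have hfixZ : ∀ z : S, (z : Ω) ∈ centralizerIn S S → τ z = z := by
      intro z hz
      obtain ⟨c, hc, d, hd, hcd⟩ := D1.Zdec z hz
      obtain rfl : z = (⟨c, (mem_zs.1 (D1.Cle hc)).1⟩ : S) * ⟨d, (mem_zs.1 (derived_le_zs hZ hd)).1⟩ :=
        Subtype.ext hcd
      rw [map_mul, hfixC _ hc, hfixD _ hd]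
    have hmove : ∀ {E : Subgroup Ω} (D : EData F 2 E) (hwS : D.w ∈ S),
        (∀ e : S, ((τ e : S) : Ω) ∈ E ↔ (e : Ω) ∈ E) →
        D.w⁻¹ * ((τ ⟨D.w, hwS⟩ : S) : Ω) ∈ centralizerIn S S := by
      intro E D hwS hf
      obtain ⟨c, hc, d, hd, i, hi⟩ := D.Edec _ ((hf ⟨D.w, hwS⟩).2 D.wE)
      have hcd : c * d ∈ centralizerIn S S := mul_mem (D.Cle hc) (derived_le_zs hZ hd)
      rcases Int.even_or_odd' i with ⟨k, rfl | rfl⟩
      · exfalso
        rw [zpow_mul, zpow_ofNat, D.w_pow, one_zpow, mul_one] at hi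
        refine D.w_ne ?_
        have h := hfixZ (τ ⟨D.w, hwS⟩) (by rw [hi]; exact hcd)
        have h' := τ.injective h
        rw [← show ((τ ⟨D.w, hwS⟩ : S) : Ω) = D.w from congrArg Subtype.val h', hi]
        exact hcd
      · rw [zpow_add, zpow_mul, zpow_ofNat, D.w_pow, one_zpow, one_mul, zpow_one] at hi
        rw [hi, zs_comm hcd hwS, inv_mul_cancel_left]
        exact hcd
    let K : Subgroup Ω :=
      { carrier := {x | ∃ hx : x ∈ S, x⁻¹ * ((τ ⟨x, hx⟩ : S) : Ω) ∈ centralizerIn S S}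
        one_mem' := ⟨S.one_mem, by
          rw [show (⟨1, S.one_mem⟩ : S) = 1 from rfl, map_one]; simp⟩
        mul_mem' := fun {a b} ha hb => by
          obtain ⟨ha, ha'⟩ := ha
          obtain ⟨hb, hb'⟩ := hb
          refine ⟨S.mul_mem ha hb, ?_⟩
          rw [show (⟨a * b, S.mul_mem ha hb⟩ : S) = ⟨a, ha⟩ * ⟨b, hb⟩ from rfl, map_mul, Subgroup.coe_mul,
            show (a * b)⁻¹ * (((τ ⟨a, ha⟩ : S) : Ω) * ((τ ⟨b, hb⟩ : S) : Ω)) =
              b⁻¹ * ((a⁻¹ * ((τ ⟨a, ha⟩ : S) : Ω)) * ((τ ⟨b, hb⟩ : S) : Ω)) by simp [mul_assoc],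
            zs_comm ha' (SetLike.coe_mem _), ← mul_assoc]
          exact mul_mem hb' ha'
        inv_mem' := fun {a} ha => by
          obtain ⟨ha, ha'⟩ := ha
          refine ⟨S.inv_mem ha, ?_⟩
          rw [show (⟨a⁻¹, S.inv_mem ha⟩ : S) = (⟨a, ha⟩ : S)⁻¹ from rfl, map_inv, Subgroup.coe_inv, inv_inv]
          have e : a * ((τ ⟨a, ha⟩ : S) : Ω)⁻¹ = (a⁻¹ * ((τ ⟨a, ha⟩ : S) : Ω))⁻¹ := by
            have h := zs_comm (Subgroup.inv_mem _ ha') ha
            rw [mul_inv_rev, inv_inv] at h ⊢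
            exact mul_right_cancel (b := a) ((mul_assoc a _ a).trans h.symm)
          rw [e]
          exact Subgroup.inv_mem _ ha' }
    have hK : S ≤ K := mid_generate hZ h₁.1 h2S hw21 D1.wE D1.w_ne (fun z hz => ⟨(mem_zs.1 hz).1, by
      rw [hfixZ _ hz, inv_mul_cancel]; exact one_mem _⟩) ⟨h2S, hmove D2 h2S hf2⟩ ⟨h1S, hmove D1 h1S hf1⟩
    ext x
    obtain ⟨hx, hx'⟩ := hK x.2
    have hfixμ : τ (x⁻¹ * τ x) = x⁻¹ * τ x := hfixZ _ hx'
    have h := move_pow hfixμ n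
    rw [hτn, MulAut.one_apply, left_eq_mul] at h
    rw [MulAut.one_apply, ← inv_mul_eq_one.1 (pow_eq_one_of_coprime hS hn h)]
  -- every automorphism of `S` is inner
  have hinn : ∀ σ ∈ F.autGroup S, σ ∈ Inn S := by
    intro σ hσ
    have := finite_mulAut (S := S) (le_refl S)
    obtain ⟨k, n, hn, hkn⟩ := Nat.exists_eq_pow_mul_and_not_dvd (orderOf_pos σ).ne' 2 (by norm_num)
    obtain ⟨-, -, -, hpow⟩ := exists_pow_inn hS hF hσ
    have hn2 : n.Coprime 2 := (Nat.prime_two.coprime_iff_not_dvd.2 hn).symm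
    set τ := σ ^ 2 ^ k with hτdef
    have hτ : τ ∈ F.autGroup S := pow_mem hσ _
    have hτn : τ ^ n = 1 := by rw [hτdef, ← pow_mul, ← hkn, pow_orderOf_eq_one]
    refine hpow ⟨k, ?_⟩
    have hperm : (∀ e : S, (((τ * τ) e : S) : Ω) ∈ E₁ ↔ (e : Ω) ∈ E₁) ∧
        (∀ e : S, (((τ * τ) e : S) : Ω) ∈ E₂ ↔ (e : Ω) ∈ E₂) := by
      obtain ⟨A, hA, hA', -⟩ := good_map hS hF hZ hτ h₁
      obtain ⟨B, hB, hB', -⟩ := good_map hS hF hZ hτ h₂
      have hAB : A ≠ B := by
        rintro rfl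
        refine hne (SetLike.ext fun y => ?_)
        constructor <;> intro hy
        · exact (hB' ⟨y, h₁.1.2.le hy⟩).1 ((hA' ⟨y, h₁.1.2.le hy⟩).2 hy)
        · exact (hA' ⟨y, h₂.1.2.le hy⟩).1 ((hB' ⟨y, h₂.1.2.le hy⟩).2 hy)
      rcases honly A hA with rfl | rfl <;> rcases honly B hB with rfl | rfl
      · exact absurd rfl hAB
      · exact ⟨fun e => (hA' (τ e)).trans (hA' e), fun e => (hB' (τ e)).trans (hB' e)⟩
      · exact ⟨fun e => (hB' (τ e)).trans (hA' e), fun e => (hA' (τ e)).trans (hB' e)⟩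
      · exact absurd rfl hAB
    have hsq := hodd (τ * τ) ((F.autGroup S).mul_mem hτ hτ) n hn2
      (by rw [(Commute.refl τ).mul_pow, hτn, one_mul]) hperm.1 hperm.2
    rw [← orderOf_eq_one_iff]
    exact Nat.eq_one_of_dvd_coprimes hn2 (orderOf_dvd_of_pow_eq_one hτn)
      (orderOf_dvd_of_pow_eq_one (by rw [sq]; exact hsq))
  -- the focal subgroup
  let W : Subgroup Ω := ⁅S, S⁆ ⊔ (Subgroup.zpowers D1.w ⊔ Subgroup.zpowers D2.w)
  have hshift : F ≤ shiftSystem F W le_sup_left := by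
    refine alperin hS hF _ fun P hP α hα => ?_
    have hinnD : ∀ γ ∈ F.autGroup S, ∀ x : S, (x : Ω)⁻¹ * ((γ x : S) : Ω) ∈ ⁅S, S⁆ := by
      intro γ hγ x
      obtain ⟨g, rfl⟩ := hinn γ hγ
      have h := Subgroup.commutator_mem_commutator (S.inv_mem x.2) g.2
      rw [commutatorElement_def, inv_inv] at h
      simpa [mul_assoc] using h
    rcases hP with rfl | hP
    · exact (mem_autGroup le_rfl).2 ⟨(mem_autGroup le_rfl).1 hα, fun x => Subgroup.mem_sup_left (hinnD α hα x)⟩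
    · have hg := good_of_essential hS hF hZ hP
      refine (mem_autGroup hP.1.1).2 ⟨(mem_autGroup hP.1.1).1 hα, fun x => ?_⟩
      have key : ∀ D : EData F 2 P, D.w ∈ W → (x : Ω)⁻¹ * ((α x : P) : Ω) ∈ W := by
        intro D hw
        obtain ⟨γ, hγ, h⟩ := D.split α hα
        obtain ⟨-, h2, -⟩ := h x ⟨(x : Ω), hP.1.1 x.2⟩ rfl
        have h3 : (x : Ω)⁻¹ * ((γ ⟨(x : Ω), hP.1.1 x.2⟩ : S) : Ω) ∈ W :=
          Subgroup.mem_sup_left (hinnD γ hγ ⟨(x : Ω), hP.1.1 x.2⟩)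
        have h4 := mul_mem h3 (sup_le le_sup_left (Subgroup.zpowers_le.2 hw) h2)
        simpa [mul_assoc] using h4
      rcases honly P hg with rfl | rfl
      · exact key D1 (Subgroup.mem_sup_right (Subgroup.mem_sup_left (Subgroup.mem_zpowers _)))
      · exact key D2 (Subgroup.mem_sup_right (Subgroup.mem_sup_right (Subgroup.mem_zpowers _)))
  have hSW : S ≤ W := by
    refine hhyp.ge.trans (hyperfocal_le_focal.trans ((Subgroup.closure_le _).2 ?_))
    rintro _ ⟨P, φ, x, hφ, rfl⟩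
    exact (hshift P hφ).2 x
  let X : Subgroup Ω :=
    { carrier := {x | ∃ d ∈ ⁅S, S⁆, ∃ i j : ℤ, x = d * (D1.w ^ i * D2.w ^ j)}
      one_mem' := ⟨1, one_mem _, 0, 0, by simp⟩
      mul_mem' := fun {a b} ha hb => by
        obtain ⟨d, hd, i, j, rfl⟩ := ha
        obtain ⟨d', hd', k, l, rfl⟩ := hb
        have hi := S.zpow_mem h1S i
        have hj := S.zpow_mem h2S j
        have hk := S.zpow_mem h1S k
        have hcomm := Subgroup.commutator_mem_commutator hj hk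
        refine ⟨d * d' * ⁅D2.w ^ j, D1.w ^ k⁆, mul_mem (mul_mem hd hd') hcomm, i + k, j + l, ?_⟩
        have e1 := zs_comm (derived_le_zs hZ hd') (mul_mem hi hj)
        have e2 := zs_comm (derived_le_zs hZ hcomm) hi
        calc _ = d * ((D1.w ^ i * D2.w ^ j) * d') * (D1.w ^ k * D2.w ^ l) := by simp [mul_assoc]
          _ = d * d' * (D1.w ^ i * ⁅D2.w ^ j, D1.w ^ k⁆) * (D1.w ^ k * (D2.w ^ j * D2.w ^ l)) := by
            rw [← e1]
            simp [commutatorElement_def, mul_assoc]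
          _ = _ := by
            rw [← e2, ← zpow_add, zpow_add D1.w]
            simp [mul_assoc]
      inv_mem' := fun {a} ha => by
        obtain ⟨d, hd, i, j, rfl⟩ := ha
        have hi := S.zpow_mem h1S (-i)
        have hj := S.zpow_mem h2S (-j)
        have hcomm := Subgroup.commutator_mem_commutator hj hi
        refine ⟨d⁻¹ * ⁅D2.w ^ (-j), D1.w ^ (-i)⁆, mul_mem (Subgroup.inv_mem _ hd) hcomm, -i, -j, ?_⟩
        have e1 := zs_comm (derived_le_zs hZ (Subgroup.inv_mem _ hd)) (mul_mem hj hi)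
        rw [mul_inv_rev, mul_inv_rev, ← zpow_neg, ← zpow_neg, ← e1]
        simp [commutatorElement_def, mul_assoc] }
  have hWX : W ≤ X := sup_le (fun d hd => ⟨d, hd, 0, 0, by simp⟩) (sup_le
    (Subgroup.zpowers_le.2 ⟨1, one_mem _, 1, 0, by simp⟩) (Subgroup.zpowers_le.2 ⟨1, one_mem _, 0, 1, by simp⟩))
  intro c hc
  obtain ⟨d, hd, i, j, hcij⟩ := hWX (hSW (mem_zs.1 (D1.Cle hc)).1)
  have hij : D1.w ^ i * D2.w ^ j ∈ centralizerIn S S := by
    rw [show D1.w ^ i * D2.w ^ j = d⁻¹ * c by rw [hcij, inv_mul_cancel_left]]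
    exact mul_mem (Subgroup.inv_mem _ (derived_le_zs hZ hd)) (D1.Cle hc)
  refine D1.Cdisj c hc ?_
  rcases Int.even_or_odd' i with ⟨a, rfl | rfl⟩ <;> rcases Int.even_or_odd' j with ⟨b, rfl | rfl⟩ <;>
    simp only [zpow_add, zpow_mul, zpow_ofNat, D1.w_pow, D2.w_pow, one_zpow, one_mul, mul_one, zpow_one, pow_one] at hij hcij
  · exact hcij ▸ hd
  · exact absurd hij D2.w_ne
  · exact absurd hij D1.w_ne
  · have h : D1.w⁻¹ * (D1.w * D2.w) ∈ E₁ := mul_mem (Subgroup.inv_mem _ D1.wE) (h₁.1.1.le hij)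
    rw [inv_mul_cancel_left] at h
    exact absurd h hw21

theorem center_le_derived (hhyp : F.hyperfocalSubgroup p = S) {E : Subgroup Ω} (hE : Good F E) :
    centralizerIn S S = ⁅S, S⁆ := by
  refine le_antisymm (fun z hz => ?_) (derived_le_zs hZ)
  obtain ⟨D⟩ := good_data hS hF hZ hE
  obtain ⟨c, hc, d, hd, rfl⟩ := D.Zdec z hz
  suffices hc1 : c = 1 by rw [hc1, one_mul]; exact hd
  by_cases hp : p = 2
  · by_cases hall : ∀ E', Good F E' → E' = E
    · exact common_fix_trivial hS hF hcore hZ hE fun E' hE' => (hall E' hE').symm ▸ hc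
    · push Not at hall
      obtain ⟨E', hE', hne⟩ := hall
      exact fix_trivial_two hS hF hcore hZ hp hhyp hE hE' hne.symm c hc
  · exact common_fix_trivial hS hF hcore hZ hE fun E' hE' => fix_eq_of_odd hS hF hcore hZ hp hE' hE hc

omit hS hF hcore in
theorem mul_pow_class_two {x e : Ω} (hx : x ∈ S) (he : e ∈ S) (n : ℕ) :
    (x * e) ^ n = x ^ n * e ^ n * ⁅e, x⁆ ^ n.choose 2 := by
  have hcZ := quotient_comm hZ he hx
  have hcomm : ∀ y ∈ S, Commute ⁅e, x⁆ y := fun y hy => zs_comm hcZ hy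
  have hxe : ∀ k : ℕ, e ^ k * x = x * e ^ k * ⁅e, x⁆ ^ k := by
    intro k
    induction k with
    | zero => simp
    | succ k ih =>
      have e1 : e * x = x * e * ⁅e, x⁆ := by
        rw [← (hcomm _ (mul_mem hx he)).eq]
        simp [commutatorElement_def, mul_assoc]
      calc e ^ (k + 1) * x = e ^ k * (e * x) := by rw [pow_succ, mul_assoc]
        _ = (e ^ k * x) * (e * ⁅e, x⁆) := by rw [e1]; simp [mul_assoc]
        _ = x * e ^ k * (⁅e, x⁆ ^ k * e) * ⁅e, x⁆ := by rw [ih]; simp [mul_assoc]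
        _ = _ := by
          rw [((hcomm e he).pow_left k).eq, pow_succ e, pow_succ ⁅e, x⁆]
          simp [mul_assoc]
  induction n with
  | zero => simp
  | succ n ih =>
    calc (x * e) ^ (n + 1) = x ^ n * e ^ n * (⁅e, x⁆ ^ n.choose 2 * (x * e)) := by
          rw [pow_succ, ih]; simp [mul_assoc]
      _ = x ^ n * (e ^ n * x) * e * ⁅e, x⁆ ^ n.choose 2 := by
          rw [((hcomm _ (mul_mem hx he)).pow_left _).eq]; simp [mul_assoc]
      _ = x ^ n * (x * e ^ n * (⁅e, x⁆ ^ n * e)) * ⁅e, x⁆ ^ n.choose 2 := by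
          rw [hxe]; simp [mul_assoc]
      _ = _ := by
          rw [((hcomm e he).pow_left n).eq, Nat.choose_succ_succ, Nat.choose_one_right, pow_add, pow_succ x,
            pow_succ e]
          simp [mul_assoc, pow_add]

theorem structure_theorem (hS1 : S ≠ ⊥) (hhyp : F.hyperfocalSubgroup p = S) :
    IsExtraspecial p ↥S ∧ Nat.card S = p ^ 3 ∧ (p ≠ 2 → Monoid.exponent ↥S = p) ∧
      (p = 2 → Nonempty (↥S ≃* DihedralGroup 4)) := by
  obtain ⟨E, hE⟩ := exists_good hS hF hcore hZ hS1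
  obtain ⟨D⟩ := good_data hS hF hZ hE
  have hZD := center_le_derived hS hF hcore hZ hhyp hE
  obtain ⟨hDcard, hDpow⟩ := derived_pow hZ hE
  have hZS : centralizerIn S S ≤ S := centralizerIn_le S S
  have hcenter : Subgroup.center ↥S = commutator ↥S := by
    rw [← zs_subgroupOf, hZD, commutator_eq_map]
    exact Subgroup.comap_map_eq_self_of_injective S.subtype_injective _
  have hcc : Nat.card (Subgroup.center ↥S) = p := by
    rw [← zs_subgroupOf, Nat.card_congr (Subgroup.subgroupOfEquivOfLe hZS).toEquiv, hZD, hDcard]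
  have hcard : Nat.card S = p ^ 3 := by
    rw [← Subgroup.card_mul_index (Subgroup.center ↥S), hcc, ← zs_subgroupOf]
    show p * (centralizerIn S S).relIndex S = _
    rw [hZ]; ring
  refine ⟨⟨⟨hS, le_antisymm ?_ ?_, hcenter.symm⟩, hcc⟩, hcard, fun hp => ?_, fun hp => ?_⟩
  · refine PGroupFrattini.frattini_le (p := p) Fact.out _ hcenter.ge fun x => ?_
    rw [← zs_subgroupOf]
    exact pow_p_mem hZ x.2
  · exact hcenter.le.trans (PGroupFrattini.commutator_le_frattini hS)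
  · have hC : ∀ c ∈ fixE F p E, c = 1 := fun c hc => D.Cdisj c hc (hZD ▸ D.Cle hc)
    have hEelem : ∀ e ∈ E, e ^ p = 1 := by
      intro e he
      obtain ⟨c, hc, d, hd, i, rfl⟩ := D.Edec e he
      have hcomm : Commute d (D.w ^ i) := zs_comm (derived_le_zs hZ hd) (S.zpow_mem (hE.1.2.le D.wE) i)
      rw [hC c hc, one_mul, hcomm.mul_pow, hDpow d hd, one_mul, ← zpow_natCast, ← zpow_mul, mul_comm,
        zpow_mul, zpow_natCast, D.w_pow, one_zpow]
    have hall : ∀ x ∈ S, x ^ p = 1 := by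
      intro x hx
      by_cases hxE : x ∈ E
      · exact hEelem x hxE
      obtain ⟨γ, hγ, -, hγD, hγw⟩ := D.inversion
      have hwS := hE.1.2.le D.wE
      set y := ((γ ⟨x, hx⟩ : S) : Ω) with hy
      have hyS : y ∈ S := SetLike.coe_mem _
      have hdmem := Subgroup.commutator_mem_commutator hx hwS
      let dS : S := ⟨⁅x, D.w⁆, (mem_zs.1 (derived_le_zs hZ hdmem)).1⟩
      have h1 : ⁅y, D.w⁻¹⁆ = ⁅x, D.w⁆⁻¹ := by
        rw [← hγD dS hdmem, show dS = ⁅(⟨x, hx⟩ : S), ⟨D.w, hwS⟩⁆ from Subtype.ext rfl, map_commutatorElement,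
          hy, ← hγw ⟨D.w, hwS⟩ rfl]
        rfl
      have h2 : ⁅y, D.w⁆ = ⁅x, D.w⁆ := by
        have h3 := commutator_mul_central hZ hyS hwS (S.inv_mem hwS)
        rw [mul_inv_cancel, commutatorElement_one_right, h1] at h3
        exact mul_inv_eq_one.1 h3.symm
      have he : x⁻¹ * y ∈ E := by
        refine mid_centralizer hZ hE.1 (mul_mem (S.inv_mem hx) hyS) fun e he' => ?_
        let K : Subgroup Ω := E ⊓ Subgroup.centralizer {x⁻¹ * y}
        have hKlt : centralizerIn S S < K := by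
          refine lt_of_le_of_ne (le_inf hE.1.1.le fun z hz => ?_) fun h => D.w_ne ?_
          · rw [Subgroup.mem_centralizer_iff]
            rintro _ rfl
            exact (zs_comm hz (mul_mem (S.inv_mem hx) hyS)).symm
          · rw [h]
            refine ⟨D.wE, ?_⟩
            show D.w ∈ Subgroup.centralizer _
            rw [Subgroup.mem_centralizer_iff]
            rintro _ rfl
            have h5 : ⁅x⁻¹ * y, D.w⁆ = 1 := by
              have e : ⁅x⁻¹ * y, D.w⁆ = x⁻¹ * ⁅y, D.w⁆ * x * ⁅x⁻¹, D.w⁆ := by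
                simp [commutatorElement_def, mul_assoc]
              have e' : ⁅x⁻¹, D.w⁆ = x⁻¹ * ⁅x, D.w⁆⁻¹ * x := by simp [commutatorElement_def, mul_assoc]
              rw [e, e', h2]
              group
            exact commutatorElement_eq_one_iff_mul_comm.1 h5
        have hK := eq_of_between (S := S) (mid_index hZ hE.1).1 hKlt inf_le_left hE.1.2.le
        exact (Subgroup.mem_centralizer_iff.1 (hK.ge he').2 _ rfl).symm
      have hyp : y ^ p = x ^ p := by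
        have h := mul_pow_class_two hZ hx (mul_mem (S.inv_mem hx) hyS) p
        rw [mul_inv_cancel_left, hEelem _ he, mul_one] at h
        obtain ⟨k, hk⟩ := (Fact.out : p.Prime).dvd_choose_self (by norm_num : 2 ≠ 0)
          (lt_of_le_of_ne (Fact.out : p.Prime).two_le (Ne.symm hp))
        rw [h, hk, pow_mul, hDpow _ (Subgroup.commutator_mem_commutator (mul_mem (S.inv_mem hx) hyS) hx), one_pow,
          mul_one]
      have hxp : x ^ p ∈ ⁅S, S⁆ := hZD ▸ pow_p_mem hZ hx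
      have h6 := hγD (⟨x, hx⟩ ^ p) hxp
      rw [map_pow, SubgroupClass.coe_pow, SubgroupClass.coe_pow, ← hy, hyp] at h6
      have h7 : (x ^ p) ^ 2 = 1 := by rw [sq]; nth_rewrite 1 [h6]; exact inv_mul_cancel _
      exact orderOf_eq_one_iff.1 (Nat.eq_one_of_dvd_coprimes
        ((Nat.coprime_primes (Fact.out : p.Prime) Nat.prime_two).2 hp)
        (orderOf_dvd_of_pow_eq_one (hDpow _ hxp)) (orderOf_dvd_of_pow_eq_one h7))
    have : Nontrivial S := (Subgroup.nontrivial_iff_ne_bot S).2 hS1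
    exact (Monoid.exponent_eq_prime_iff Fact.out).2 fun g hg =>
      orderOf_eq_prime (Subtype.ext (hall g g.2)) hg
  · subst hp
    have hwS := hE.1.2.le D.wE
    obtain ⟨x, hx, hxE⟩ := SetLike.exists_of_lt hE.1.2
    obtain ⟨hDz, hd1, hd2⟩ := mid_commutator hZ hE.1 hx hxE D.wE D.w_ne
    obtain ⟨t, htS, htE, ht2⟩ : ∃ t ∈ S, t ∉ E ∧ t ^ 2 = 1 := by
      by_cases h : x ^ 2 = 1
      · exact ⟨x, hx, hxE, h⟩
      refine ⟨x * D.w, mul_mem hx hwS, fun h' => hxE (by simpa using mul_mem h' (E.inv_mem D.wE)), ?_⟩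
      have hm : x ^ 2 ∈ Subgroup.zpowers ⁅x, D.w⁆ := hDz ▸ hZD ▸ pow_p_mem hZ hx
      obtain ⟨i, hi⟩ := Subgroup.mem_zpowers_iff.1 hm
      have hxd : x ^ 2 = ⁅x, D.w⁆ := by
        rcases Int.even_or_odd' i with ⟨k, rfl | rfl⟩
        · exact absurd (by rw [← hi, zpow_mul, zpow_ofNat, hd2, one_zpow]) h
        · rw [← hi, zpow_add, zpow_mul, zpow_ofNat, hd2, one_zpow, one_mul, zpow_one]
      have hinv : ⁅D.w, x⁆ = ⁅x, D.w⁆ := by
        rw [← commutatorElement_inv]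
        exact inv_eq_of_mul_eq_one_right (by rw [← sq, hd2])
      rw [mul_pow_class_two hZ hx hwS, D.w_pow, mul_one, hxd, hinv, show Nat.choose 2 2 = 1 from rfl, pow_one,
        ← sq, hd2]
    obtain ⟨-, hd1', -⟩ := mid_commutator hZ hE.1 htS htE D.wE D.w_ne
    let a : S := ⟨t, htS⟩
    let b : S := ⟨D.w, hwS⟩
    have ha : orderOf a = 2 := by
      refine orderOf_eq_prime (Subtype.ext ht2) fun h => htE ?_
      rw [show t = 1 from congrArg Subtype.val h]
      exact E.one_mem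
    have hb : orderOf b = 2 := by
      refine orderOf_eq_prime (Subtype.ext D.w_pow) fun h => D.w_ne ?_
      rw [show D.w = 1 from congrArg Subtype.val h]
      exact one_mem _
    have hab : a ≠ b := fun h => htE ((show t = D.w from congrArg Subtype.val h) ▸ D.wE)
    have htinv : t⁻¹ = t := inv_eq_of_mul_eq_one_right (by rw [← sq, ht2])
    have hwinv : D.w⁻¹ = D.w := inv_eq_of_mul_eq_one_right (by rw [← sq, D.w_pow])
    have hsq : (a * b) * (a * b) = ⁅a, b⁆ := by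
      rw [commutatorElement_def, show a⁻¹ = a from Subtype.ext htinv, show b⁻¹ = b from Subtype.ext hwinv]
      simp [mul_assoc]
    have hord : orderOf (a * b) = 4 := by
      refine (orderOf_eq_prime_pow (p := 2) (n := 1) ?_ ?_).trans (by norm_num)
      · rw [pow_one, sq, hsq]
        exact fun h => hd1' (congrArg Subtype.val h)
      · rw [show 2 ^ (1 + 1) = 2 * 2 from rfl, pow_mul, sq (a * b), hsq]
        have h := hDpow ((⁅a, b⁆ : S) : Ω) (Subgroup.commutator_mem_commutator htS hwS)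
        exact Subtype.ext h
    obtain ⟨e⟩ := Involution.closure_pair_dihedral ha hb hab
    have htop : Subgroup.closure ({a, b} : Set S) = ⊤ := by
      refine Subgroup.eq_top_of_card_eq _ ?_
      rw [Nat.card_congr e.toEquiv, DihedralGroup.nat_card, hord, hcard]; rfl
    rw [htop, hord] at e
    exact ⟨Subgroup.topEquiv.symm.trans e⟩

end Cfsg.Agent.Lib.FusionIndex
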