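import Cfsg.Agent.Lib.FusionIndex.Transvection
import Cfsg.Agent.Lib.Fusion.Essential
import Cfsg.Agent.Lib.Fusion.Focal
import Cfsg.Agent.Lib.PGroupFrattini

/-!
Fusion systems over a group whose centre has index `p²`: the abelian subgroups of index `p`.
-/

set_option autoImplicit false

namespace Cfsg.Agent.Lib.FusionIndex

open Cfsg Cfsg.FusionSystem Cfsg.Agent.Lib.Fusion
open scoped commutatorElement

universe u

variable {Ω : Type u} [Group Ω] {S : Subgroup Ω} {F : FusionSystem S} {p : ℕ}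

/-- Strictly between the centre and `S`. -/
def Mid (S E : Subgroup Ω) : Prop := centralizerIn S S < E ∧ E < S

theorem mem_zs {z : Ω} : z ∈ centralizerIn S S ↔ z ∈ S ∧ ∀ s ∈ S, s * z = z * s := mem_centralizerIn

theorem zs_subgroupOf : (centralizerIn S S).subgroupOf S = Subgroup.center S := by
  ext ⟨z, hz⟩
  simp only [Subgroup.mem_subgroupOf, mem_zs, Subgroup.mem_center_iff]
  exact ⟨fun h g => Subtype.ext (h.2 g g.2), fun h => ⟨hz, fun s hs => congrArg Subtype.val (h ⟨s, hs⟩)⟩⟩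

theorem zs_comm {z s : Ω} (hz : z ∈ centralizerIn S S) (hs : s ∈ S) : z * s = s * z :=
  ((mem_zs.1 hz).2 s hs).symm

theorem eq_of_between [Finite S] [Fact p.Prime] {X K E : Subgroup Ω} (h : X.relIndex E = p)
    (hXK : X < K) (hKE : K ≤ E) (hE : E ≤ S) : K = E := by
  have := finite_of_le hE
  have := finite_of_le (hKE.trans hE)
  have h1 := Subgroup.relIndex_mul_relIndex X K E hXK.le hKE
  rw [h] at h1
  rcases (Fact.out : p.Prime).eq_one_or_self_of_dvd _ (Dvd.intro _ h1) with h2 | h2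
  · exact absurd (Subgroup.relIndex_eq_one.1 h2) hXK.not_ge
  · rw [h2] at h1
    have h3 : K.relIndex E = 1 := by
      have := (Fact.out : p.Prime).pos
      nlinarith
    exact le_antisymm hKE (Subgroup.relIndex_eq_one.1 h3)

section

variable [Finite S] [Fact p.Prime] (hS : IsPGroup p S) (hZ : (centralizerIn S S).relIndex S = p ^ 2)

include hZ

theorem mid_index {E : Subgroup Ω} (hE : Mid S E) :
    (centralizerIn S S).relIndex E = p ∧ E.relIndex S = p := by
  have h := Subgroup.relIndex_mul_relIndex _ _ _ hE.1.le hE.2.le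
  rw [hZ] at h
  obtain ⟨k, hk, hk'⟩ := (Nat.dvd_prime_pow (Fact.out : p.Prime)).1 (Dvd.intro _ h)
  have hp := (Fact.out : p.Prime).pos
  interval_cases k
  · exact absurd (Subgroup.relIndex_eq_one.1 (by simpa using hk')) hE.1.not_ge
  · refine ⟨by simpa using hk', ?_⟩
    rw [hk', pow_one, sq] at h
    exact Nat.eq_of_mul_eq_mul_left hp h
  · rw [hk'] at h
    have h1 : E.relIndex S = 1 := by
      have := pow_pos hp 2
      nlinarith
    exact absurd (Subgroup.relIndex_eq_one.1 h1) hE.2.not_ge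

theorem quotient_comm {a b : Ω} (ha : a ∈ S) (hb : b ∈ S) : ⁅a, b⁆ ∈ centralizerIn S S := by
  have hc : Nat.card (↥S ⧸ Subgroup.center ↥S) = p ^ 2 := by
    rw [← Subgroup.index, ← zs_subgroupOf]; exact hZ
  have h := (IsPGroup.isMulCommutative_of_card_eq_prime_sq hc).is_comm.comm
    (QuotientGroup.mk (⟨a, ha⟩ : S)) (QuotientGroup.mk ⟨b, hb⟩)
  have h1 : (⟨_, ha⟩ * ⟨_, hb⟩ * (⟨_, ha⟩ : S)⁻¹ * (⟨_, hb⟩ : S)⁻¹) ∈ Subgroup.center ↥S := by
    rw [← QuotientGroup.eq_one_iff]
    simp only [QuotientGroup.mk_mul, QuotientGroup.mk_inv]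
    rw [h]
    simp
  rw [← zs_subgroupOf] at h1
  simpa [commutatorElement_def, Subgroup.mem_subgroupOf] using h1

theorem pow_p_mem {a : Ω} (ha : a ∈ S) : a ^ p ∈ centralizerIn S S := by
  set C := Subgroup.center ↥S
  have hc : Nat.card (↥S ⧸ C) = p ^ 2 := by
    show (Subgroup.center ↥S).index = p ^ 2
    rw [← zs_subgroupOf]; exact hZ
  let q : ↥S ⧸ C := QuotientGroup.mk ⟨a, ha⟩
  have hq : q ^ p = 1 := by
    obtain ⟨k, hk, hk'⟩ := (Nat.dvd_prime_pow (Fact.out : p.Prime)).1 (hc ▸ orderOf_dvd_natCard q)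
    interval_cases k
    · rw [pow_zero, orderOf_eq_one_iff] at hk'
      rw [hk', one_pow]
    · rw [pow_one] at hk'
      rw [← hk', pow_orderOf_eq_one]
    · exfalso
      have : IsCyclic (↥S ⧸ C) := isCyclic_of_orderOf_eq_card q (hk'.trans hc.symm)
      have hab := commutative_of_cyclic_center_quotient (QuotientGroup.mk' C) (QuotientGroup.ker_mk' C).le
      have : C = ⊤ := eq_top_iff.2 fun x _ => Subgroup.mem_center_iff.2 fun y => hab y x
      have h1 : Nat.card (↥S ⧸ C) = 1 := by rw [← Subgroup.index, this, Subgroup.index_top]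
      rw [hc] at h1
      exact absurd (Nat.pow_eq_one.1 h1) (by simp [(Fact.out : p.Prime).ne_one])
  have h1 : (⟨a, ha⟩ : S) ^ p ∈ C := (QuotientGroup.eq_one_iff ((⟨a, ha⟩ : S) ^ p)).1 hq
  rw [show C = (centralizerIn S S).subgroupOf S from zs_subgroupOf.symm] at h1
  simpa [Subgroup.mem_subgroupOf] using h1

theorem mid_comm {E : Subgroup Ω} (hE : Mid S E) {a b : Ω} (ha : a ∈ E) (hb : b ∈ E) : a * b = b * a := by
  by_cases hbZ : b ∈ centralizerIn S S
  · exact (zs_comm hbZ (hE.2.le ha)).symm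
  let K : Subgroup Ω := E ⊓ Subgroup.centralizer {b}
  have hK : ∀ {y : Ω}, y ∈ K ↔ y ∈ E ∧ b * y = y * b := by
    simp [K, Subgroup.mem_centralizer_iff]
  have hlt : centralizerIn S S < K := by
    refine lt_of_le_of_ne (fun z hz => hK.2 ⟨hE.1.le hz, (zs_comm hz (hE.2.le hb)).symm⟩) fun h => hbZ ?_
    rw [h]
    exact hK.2 ⟨hb, rfl⟩
  have h := eq_of_between (S := S) (mid_index hZ hE).1 hlt inf_le_left hE.2.le
  exact (hK.1 (h.symm ▸ ha)).2.symm

theorem mid_isMulCommutative {E : Subgroup Ω} (hE : Mid S E) : IsMulCommutative E :=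
  ⟨⟨fun a b => Subtype.ext (mid_comm hZ hE a.2 b.2)⟩⟩

theorem mid_normalizerIn {E : Subgroup Ω} (hE : Mid S E) : normalizerIn S E = S := by
  have := finite_of_le hE.2.le
  refine le_antisymm (normalizerIn_le _ _) (le_inf le_rfl fun g hg => mem_normalizer_of_conj_mem fun e he => ?_)
  have h := E.mul_mem (hE.1.le (quotient_comm hZ hg (hE.2.le he))) he
  simpa [commutatorElement_def, mul_assoc] using h

theorem mid_centralizer {E : Subgroup Ω} (hE : Mid S E) {g : Ω} (hg : g ∈ S)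
    (h : ∀ e ∈ E, e * g = g * e) : g ∈ E := by
  by_contra hgE
  let K : Subgroup Ω := S ⊓ Subgroup.centralizer (E : Set Ω)
  have hlt : E < K := by
    refine lt_of_le_of_ne (le_inf hE.2.le fun e he => ?_) fun h' => hgE ?_
    · rw [Subgroup.mem_centralizer_iff]
      exact fun e' he' => mid_comm hZ hE he' he
    · rw [h']
      exact ⟨hg, Subgroup.mem_centralizer_iff.2 h⟩
  have h' := eq_of_between (S := S) (mid_index hZ hE).2 hlt inf_le_left le_rfl
  refine hE.1.not_ge fun e he => mem_zs.2 ⟨hE.2.le he, fun s hs => ?_⟩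
  exact ((Subgroup.mem_centralizer_iff.1 (h'.ge hs).2) e he).symm

theorem mid_generate {E : Subgroup Ω} (hE : Mid S E) {x e : Ω} (hx : x ∈ S) (hxE : x ∉ E) (he : e ∈ E)
    (heZ : e ∉ centralizerIn S S) {K : Subgroup Ω} (hZK : centralizerIn S S ≤ K) (hxK : x ∈ K) (heK : e ∈ K) :
    S ≤ K := by
  have hlt : centralizerIn S S < K ⊓ E :=
    lt_of_le_of_ne (le_inf hZK hE.1.le) fun h => heZ (h ▸ ⟨heK, he⟩)
  have hEK : E ≤ K := (eq_of_between (S := S) (mid_index hZ hE).1 hlt inf_le_right hE.2.le).ge.trans inf_le_left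
  have hlt' : E < K ⊓ S := lt_of_le_of_ne (le_inf hEK hE.2.le) fun h => hxE (h ▸ ⟨hxK, hx⟩)
  exact (eq_of_between (S := S) (mid_index hZ hE).2 hlt' inf_le_right le_rfl).ge.trans inf_le_left

theorem commutator_mul_central {a b c : Ω} (ha : a ∈ S) (hb : b ∈ S) (hc : c ∈ S) :
    ⁅a, b * c⁆ = ⁅a, b⁆ * ⁅a, c⁆ := by
  have h := zs_comm (quotient_comm hZ ha hc) hb
  have e : ⁅a, b * c⁆ = ⁅a, b⁆ * (b * ⁅a, c⁆ * b⁻¹) := by simp [commutatorElement_def, mul_assoc]
  rw [e, ← h, mul_inv_cancel_right]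

theorem mid_commutator {E : Subgroup Ω} (hE : Mid S E) {x e : Ω} (hx : x ∈ S) (hxE : x ∉ E) (he : e ∈ E)
    (heZ : e ∉ centralizerIn S S) :
    ⁅S, S⁆ = Subgroup.zpowers ⁅x, e⁆ ∧ ⁅x, e⁆ ≠ 1 ∧ ⁅x, e⁆ ^ p = 1 := by
  have heS := hE.2.le he
  have hd := quotient_comm hZ hx heS
  refine ⟨le_antisymm ?_ (Subgroup.zpowers_le.2 (Subgroup.commutator_mem_commutator hx heS)), fun h => ?_, ?_⟩
  · let X : Ω → Prop := fun s => ∀ t ∈ S, ⁅s, t⁆ ∈ Subgroup.zpowers ⁅x, e⁆
    have hX : ∀ s ∈ S, ⁅s, x⁆ ∈ Subgroup.zpowers ⁅x, e⁆ → ⁅s, e⁆ ∈ Subgroup.zpowers ⁅x, e⁆ → X s := by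
      intro s hs h1 h2
      let K : Subgroup Ω :=
        { carrier := {t | t ∈ S ∧ ⁅s, t⁆ ∈ Subgroup.zpowers ⁅x, e⁆}
          one_mem' := ⟨S.one_mem, by simp⟩
          mul_mem' := fun ha hb => ⟨S.mul_mem ha.1 hb.1, by
            rw [commutator_mul_central hZ hs ha.1 hb.1]; exact mul_mem ha.2 hb.2⟩
          inv_mem' := fun {a} ha => ⟨S.inv_mem ha.1, by
            have h := commutator_mul_central hZ hs ha.1 (S.inv_mem ha.1)
            rw [mul_inv_cancel, commutatorElement_one_right] at h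
            rw [eq_inv_of_mul_eq_one_right h.symm]
            exact inv_mem ha.2⟩ }
      have hK : S ≤ K := mid_generate hZ hE hx hxE he heZ (fun z hz => ⟨(mem_zs.1 hz).1, by
        rw [commutatorElement_eq_one_iff_mul_comm.2 (zs_comm hz hs).symm]; exact one_mem _⟩)
        ⟨hx, h1⟩ ⟨heS, h2⟩
      exact fun t ht => (hK ht).2
    have hxX : X x := hX x hx (by simp) (Subgroup.mem_zpowers _)
    have heX : X e := hX e heS (by rw [← commutatorElement_inv x e]; exact Subgroup.inv_mem _ (Subgroup.mem_zpowers _)) (by simp)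
    refine Subgroup.commutator_le.2 fun s hs t ht => hX s hs ?_ ?_ t ht
    · rw [← commutatorElement_inv x s]; exact Subgroup.inv_mem _ (hxX s hs)
    · rw [← commutatorElement_inv e s]; exact Subgroup.inv_mem _ (heX s hs)
  · have hc := commutatorElement_eq_one_iff_mul_comm.1 h
    let K : Subgroup Ω := Subgroup.centralizer {e}
    have hK : S ≤ K := mid_generate hZ hE hx hxE he heZ
      (fun z hz => by simp [K, Subgroup.mem_centralizer_iff, zs_comm hz heS])
      (by simp [K, Subgroup.mem_centralizer_iff, hc]) (by simp [K, Subgroup.mem_centralizer_iff])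
    refine heZ (mem_zs.2 ⟨heS, fun s hs => ?_⟩)
    have := hK hs
    simp only [K, Subgroup.mem_centralizer_iff, Set.mem_singleton_iff, forall_eq] at this
    exact this.symm
  · have hpow : ∀ n : ℕ, ⁅x, e ^ n⁆ = ⁅x, e⁆ ^ n := by
      intro n
      induction n with
      | zero => simp
      | succ n ih => rw [pow_succ, commutator_mul_central hZ hx (pow_mem heS n) heS, ih, pow_succ]
    rw [← hpow, commutatorElement_eq_one_iff_mul_comm]
    exact (zs_comm (pow_p_mem hZ heS) hx).symm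

end

end Cfsg.Agent.Lib.FusionIndex
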