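import Mathlib.GroupTheory.Sylow
import Mathlib.GroupTheory.SpecificGroups.Cyclic
import Mathlib.Algebra.Group.End

/-!
Groups of automorphisms of an abelian group whose elements of order `p` are transvections and generate
pairwise different maximal `p`-subgroups.
-/

set_option autoImplicit false

namespace Cfsg.Agent.Lib.FusionIndex

universe u

variable {M : Type u} [Group M] {p : ℕ}

/-- `c` moves every element by a power of `u` and fixes `u`, which has order `p`. -/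
def IsTv (p : ℕ) (c : MulAut M) (u : M) : Prop :=
  u ≠ 1 ∧ u ^ p = 1 ∧ c u = u ∧ ∀ m, m⁻¹ * c m ∈ Subgroup.zpowers u

/-- The hypotheses on the group of automorphisms. -/
def IsTvGroup (p : ℕ) (A : Subgroup (MulAut M)) : Prop :=
  (∀ c ∈ A, c ^ p = 1 → c ≠ 1 → ∃ u, IsTv p c u) ∧
    ∀ c ∈ A, ∀ d ∈ A, c ^ p = 1 → d ^ p = 1 → c ≠ 1 → Commute c d → d ∈ Subgroup.zpowers c

/-- The elements fixed by all elements of order dividing `p`. -/
def fixC (p : ℕ) (A : Subgroup (MulAut M)) : Subgroup M where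
  carrier := {m | ∀ c ∈ A, c ^ p = 1 → c m = m}
  one_mem' := fun c _ _ => map_one c
  mul_mem' := fun ha hb c hc hcp => by rw [map_mul, ha c hc hcp, hb c hc hcp]
  inv_mem' := fun ha c hc hcp => by rw [map_inv, ha c hc hcp]

theorem mem_fixC {A : Subgroup (MulAut M)} {m : M} :
    m ∈ fixC p A ↔ ∀ c ∈ A, c ^ p = 1 → c m = m := Iff.rfl

theorem pow_conj_eq_one {c : MulAut M} (g : MulAut M) {n : ℕ} (h : c ^ n = 1) : (g * c * g⁻¹) ^ n = 1 := by
  rw [conj_pow, h, mul_one, mul_inv_cancel]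

theorem fixC_invariant {A : Subgroup (MulAut M)} {β : MulAut M} (hβ : β ∈ A) {m : M}
    (hm : m ∈ fixC p A) : β m ∈ fixC p A := by
  intro c hc hcp
  have h := hm (β⁻¹ * c * β⁻¹⁻¹) (mul_mem (mul_mem (inv_mem hβ) hc) (inv_mem (inv_mem hβ)))
    (pow_conj_eq_one β⁻¹ hcp)
  rw [inv_inv, MulAut.mul_apply, MulAut.mul_apply] at h
  have := congrArg β h
  rwa [MulAut.apply_inv_self] at this

variable [IsMulCommutative M]

local instance : CommGroup M :=
  { (inferInstance : Group M) with mul_comm := fun a b => IsMulCommutative.is_comm.comm a b }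

theorem apply_zpow_fix {c : MulAut M} {u : M} (h : c u = u) (i : ℤ) : c (u ^ i) = u ^ i := by
  rw [map_zpow, h]

theorem zpowers_eq_of_mem [Fact p.Prime] {u z : M} (hu : u ^ p = 1) (hz : z ∈ Subgroup.zpowers u)
    (hz1 : z ≠ 1) : Subgroup.zpowers z = Subgroup.zpowers u := by
  have hu1 : u ≠ 1 := fun h => hz1 (by
    rw [h, Subgroup.zpowers_one_eq_bot, Subgroup.mem_bot] at hz
    exact hz)
  have ho : orderOf u = p := orderOf_eq_prime hu hu1
  have hle := Subgroup.zpowers_le.2 hz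
  have hzo : orderOf z = p := by
    refine orderOf_eq_prime ?_ hz1
    obtain ⟨k, rfl⟩ := Subgroup.mem_zpowers_iff.1 hz
    rw [← zpow_natCast, ← zpow_mul, mul_comm, zpow_mul, zpow_natCast, hu, one_zpow]
  have : Finite (Subgroup.zpowers u) := Nat.finite_of_card_ne_zero (by
    rw [Nat.card_zpowers, ho]; exact (Fact.out : p.Prime).ne_zero)
  exact Subgroup.eq_of_le_of_card_ge hle (by rw [Nat.card_zpowers, Nat.card_zpowers, ho, hzo])

theorem commute_of_fix_fix {c d : MulAut M} {u w : M} (hc : IsTv p c u) (hd : IsTv p d w)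
    (h1 : d u = u) (h2 : c w = w) : Commute c d := by
  apply MulEquiv.ext
  intro m
  show c (d m) = d (c m)
  obtain ⟨i, hi⟩ := Subgroup.mem_zpowers_iff.1 (hc.2.2.2 m)
  obtain ⟨j, hj⟩ := Subgroup.mem_zpowers_iff.1 (hd.2.2.2 m)
  have e1 : c m = m * u ^ i := by rw [hi]; simp
  have e2 : d m = m * w ^ j := by rw [hj]; simp
  rw [e1, e2, map_mul, map_mul, apply_zpow_fix h2, apply_zpow_fix h1, e1, e2, mul_right_comm]

theorem IsTv.conj {c : MulAut M} {u : M} (h : IsTv p c u) (g : MulAut M) : IsTv p (g * c * g⁻¹) (g u) := by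
  obtain ⟨h1, h2, h3, h4⟩ := h
  refine ⟨fun e => h1 (g.injective (by rw [e, map_one])), by rw [← map_pow, h2, map_one], ?_, fun m => ?_⟩
  · rw [MulAut.mul_apply, MulAut.mul_apply, MulAut.inv_apply_self, h3]
  · obtain ⟨i, hi⟩ := Subgroup.mem_zpowers_iff.1 (h4 (g⁻¹ m))
    refine Subgroup.mem_zpowers_iff.2 ⟨i, ?_⟩
    rw [← map_zpow, hi, map_mul, map_inv, MulAut.apply_inv_self]
    rfl

/-- If one of two elements of order `p` fixes the line of the other then they commute. -/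
theorem commute_of_fix [Fact p.Prime] {A : Subgroup (MulAut M)} (hA : IsTvGroup p A) {c d : MulAut M}
    (hcA : c ∈ A) (hdA : d ∈ A) (hdp : d ^ p = 1) (hd1 : d ≠ 1) {u w : M}
    (hc : IsTv p c u) (hd : IsTv p d w) (h1 : d u = u) : Commute c d := by
  by_cases h2 : c w = w
  · exact commute_of_fix_fix hc hd h1 h2
  exfalso
  obtain ⟨i, hi⟩ := Subgroup.mem_zpowers_iff.1 (hc.2.2.2 w)
  have e1 : c w = w * u ^ i := by rw [hi]; simp
  have e2 : d (c w) = c w := by rw [e1, map_mul, hd.2.2.1, apply_zpow_fix h1]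
  have e3 : (c * d * c⁻¹) w = w := by
    obtain ⟨j, hj⟩ := Subgroup.mem_zpowers_iff.1 (hc.2.2.2 (c⁻¹ w))
    rw [MulAut.apply_inv_self] at hj
    have e : c⁻¹ w = w * (u ^ j)⁻¹ := by rw [hj]; simp
    rw [MulAut.mul_apply, MulAut.mul_apply, e, map_mul, map_inv, hd.2.2.1, apply_zpow_fix h1, ← e,
      MulAut.apply_inv_self]
  have hconj := hd.conj c
  have hcomm : Commute d (c * d * c⁻¹) := commute_of_fix_fix hd hconj e3 e2
  obtain ⟨k, hk⟩ := Subgroup.mem_zpowers_iff.1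
    (hA.2 d hdA _ (mul_mem (mul_mem hcA hdA) (inv_mem hcA)) hdp (pow_conj_eq_one c hdp) hd1 hcomm)
  -- every power of `d` moves elements inside the line of `d`
  let K : Subgroup (MulAut M) :=
    { carrier := {g | g w = w ∧ ∀ m, m⁻¹ * g m ∈ Subgroup.zpowers w}
      one_mem' := ⟨rfl, fun m => by simp⟩
      mul_mem' := fun {a b} ha hb => ⟨by rw [MulAut.mul_apply, hb.1, ha.1], fun m => by
        have := mul_mem (hb.2 m) (ha.2 (b m))
        simpa [mul_assoc] using this⟩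
      inv_mem' := fun {a} ha => ⟨by
          have := congrArg (fun y => a⁻¹ y) ha.1
          simpa using this.symm, fun m => by
        have := inv_mem (ha.2 (a⁻¹ m))
        rw [MulAut.apply_inv_self, mul_inv_rev, inv_inv] at this
        exact this⟩ }
  have hdK : d ∈ K := ⟨hd.2.2.1, hd.2.2.2⟩
  obtain ⟨m, hm⟩ : ∃ m, (c * d * c⁻¹) m ≠ m := by
    by_contra hne
    push Not at hne
    exact hd1 (conj_eq_one_iff.1 (MulEquiv.ext hne))
  set z := m⁻¹ * (c * d * c⁻¹) m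
  have hz1 : z ≠ 1 := fun h => hm (inv_mul_eq_one.1 h).symm
  have hzw : z ∈ Subgroup.zpowers w := by
    have := (K.zpow_mem hdK k).2 m
    rwa [hk] at this
  have hcw : c w ∈ Subgroup.zpowers w := by
    rw [← zpowers_eq_of_mem hd.2.1 hzw hz1, zpowers_eq_of_mem hconj.2.1 (hconj.2.2.2 m) hz1]
    exact Subgroup.mem_zpowers _
  have hy : w⁻¹ * c w ∈ Subgroup.zpowers u := hc.2.2.2 w
  have hy' : w⁻¹ * c w ∈ Subgroup.zpowers w := mul_mem (inv_mem (Subgroup.mem_zpowers w)) hcw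
  have hy1 : w⁻¹ * c w ≠ 1 := fun h => h2 (inv_mul_eq_one.1 h).symm
  have huw : w ∈ Subgroup.zpowers u := by
    rw [← zpowers_eq_of_mem hc.2.1 hy hy1, zpowers_eq_of_mem hd.2.1 hy' hy1]
    exact Subgroup.mem_zpowers _
  obtain ⟨l, hl⟩ := Subgroup.mem_zpowers_iff.1 huw
  exact h2 (by rw [← hl, apply_zpow_fix hc.2.2.1])

/-- A pair of opposite transvections. -/
structure TvPair (p : ℕ) (A : Subgroup (MulAut M)) (a : MulAut M) where
  u : M
  w : M
  b : MulAut M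
  hbA : b ∈ A
  hbp : b ^ p = 1
  hb1 : b ≠ 1
  ta : IsTv p a u
  tb : IsTv p b w
  haw : a w = w * u
  hbu : b u = u * w⁻¹

theorem exists_tvPair [Fact p.Prime] {A : Subgroup (MulAut M)} (hA : IsTvGroup p A) {a d : MulAut M}
    (haA : a ∈ A) (hap : a ^ p = 1) (ha1 : a ≠ 1) (hdA : d ∈ A) (hdp : d ^ p = 1)
    (hne : d ∉ Subgroup.zpowers a) : Nonempty (TvPair p A a) := by
  have hd1 : d ≠ 1 := fun h => hne (h ▸ one_mem _)
  obtain ⟨u₀, hu₀⟩ := hA.1 a haA hap ha1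
  obtain ⟨w, hw⟩ := hA.1 d hdA hdp hd1
  have hnc : ¬ Commute a d := fun h => hne (hA.2 a haA d hdA hap hdp ha1 h)
  have haw : a w ≠ w := fun h =>
    hnc (commute_of_fix hA hdA haA hap ha1 hw hu₀ h).symm
  set u := w⁻¹ * a w with hu
  have hu1 : u ≠ 1 := fun h => haw (inv_mul_eq_one.1 h).symm
  have hz := zpowers_eq_of_mem hu₀.2.1 (hu₀.2.2.2 w) hu1
  have hta : IsTv p a u := by
    refine ⟨hu1, ?_, ?_, fun m => hz ▸ hu₀.2.2.2 m⟩
    · obtain ⟨i, hi⟩ := Subgroup.mem_zpowers_iff.1 (hu₀.2.2.2 w)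
      rw [hu, ← hi, ← zpow_natCast, ← zpow_mul, mul_comm, zpow_mul, zpow_natCast, hu₀.2.1, one_zpow]
    · obtain ⟨i, hi⟩ := Subgroup.mem_zpowers_iff.1 (hu₀.2.2.2 w)
      rw [hu, ← hi, apply_zpow_fix hu₀.2.2.1]
  have hdu : d u ≠ u := fun h => hnc (commute_of_fix hA haA hdA hdp hd1 hta hw h)
  have hz' := zpowers_eq_of_mem hw.2.1 (hw.2.2.2 u) (fun h => hdu (inv_mul_eq_one.1 h).symm)
  obtain ⟨k, hk⟩ := Subgroup.mem_zpowers_iff.1
    (show w⁻¹ ∈ Subgroup.zpowers (u⁻¹ * d u) from hz' ▸ inv_mem (Subgroup.mem_zpowers w))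
  have hzp : ∀ (j : ℤ) (m : M), (d ^ j) m = m * (m⁻¹ * d m) ^ j := by
    have hfix : ∀ m, d (m⁻¹ * d m) = m⁻¹ * d m := fun m => by
      obtain ⟨i, hi⟩ := Subgroup.mem_zpowers_iff.1 (hw.2.2.2 m)
      rw [← hi, apply_zpow_fix hw.2.2.1]
    intro j
    induction j using Int.induction_on with
    | zero => intro m; simp
    | succ n ih =>
      intro m
      rw [zpow_add_one, MulAut.mul_apply]
      conv_lhs => rw [show d m = m * (m⁻¹ * d m) by simp, map_mul, ih m, ih (m⁻¹ * d m), hfix m]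
      rw [zpow_add_one]
      simp [mul_assoc]
    | pred n ih =>
      intro m
      rw [zpow_sub_one, MulAut.mul_apply]
      have e : d⁻¹ m = m * (m⁻¹ * d m)⁻¹ := by
        apply d.injective
        rw [MulAut.apply_inv_self, map_mul, map_inv, hfix]
        simp
      rw [e, map_mul, map_inv, ih m, ih (m⁻¹ * d m), hfix m, zpow_sub_one]
      simp [mul_assoc]
  have hbu : (d ^ k) u = u * w⁻¹ := by rw [hzp, hk]
  refine ⟨⟨u, w, d ^ k, zpow_mem hdA k, ?_, ?_, hta, ⟨hw.1, hw.2.1, ?_, fun m => ?_⟩, by simp [hu], hbu⟩⟩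
  · rw [← zpow_natCast, ← zpow_mul, mul_comm, zpow_mul, zpow_natCast, hdp, one_zpow]
  · intro h
    rw [h, MulAut.one_apply, left_eq_mul, inv_eq_one] at hbu
    exact hw.1 hbu
  · rw [hzp, hw.2.2.1]; simp
  · rw [hzp, inv_mul_cancel_left]
    exact Subgroup.zpow_mem _ (hw.2.2.2 m) k

variable {A : Subgroup (MulAut M)} {a : MulAut M}

/-- The subgroup generated by the pair. -/
def TvPair.L (P : TvPair p A a) : Subgroup (MulAut M) := Subgroup.closure {a, P.b}

/-- The plane of the pair. -/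
def TvPair.V (P : TvPair p A a) : Subgroup M := Subgroup.zpowers P.u ⊔ Subgroup.zpowers P.w

theorem TvPair.L_le (P : TvPair p A a) (haA : a ∈ A) : P.L ≤ A :=
  (Subgroup.closure_le _).2 fun x hx => by
    rcases hx with rfl | rfl
    exacts [haA, P.hbA]

theorem TvPair.u_mem (P : TvPair p A a) : P.u ∈ P.V := Subgroup.mem_sup_left (Subgroup.mem_zpowers _)

theorem TvPair.w_mem (P : TvPair p A a) : P.w ∈ P.V := Subgroup.mem_sup_right (Subgroup.mem_zpowers _)

theorem TvPair.mem_V (P : TvPair p A a) {m : M} :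
    m ∈ P.V ↔ ∃ i j : ℤ, m = P.u ^ i * P.w ^ j := by
  rw [TvPair.V, Subgroup.mem_sup]
  constructor
  · rintro ⟨y, hy, z, hz, rfl⟩
    obtain ⟨i, rfl⟩ := Subgroup.mem_zpowers_iff.1 hy
    obtain ⟨j, rfl⟩ := Subgroup.mem_zpowers_iff.1 hz
    exact ⟨i, j, rfl⟩
  · rintro ⟨i, j, rfl⟩
    exact ⟨_, Subgroup.zpow_mem _ (Subgroup.mem_zpowers _) i, _,
      Subgroup.zpow_mem _ (Subgroup.mem_zpowers _) j, rfl⟩

theorem TvPair.V_pow (P : TvPair p A a) {m : M} (hm : m ∈ P.V) : m ^ p = 1 := by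
  obtain ⟨i, j, rfl⟩ := P.mem_V.1 hm
  rw [mul_pow, ← zpow_natCast, ← zpow_natCast, ← zpow_mul, ← zpow_mul, mul_comm i, mul_comm j, zpow_mul, zpow_mul,
    zpow_natCast, zpow_natCast, P.ta.2.1, P.tb.2.1, one_zpow, one_zpow, one_mul]

theorem TvPair.L_move (P : TvPair p A a) {g : MulAut M} (hg : g ∈ P.L) :
    (∀ c : M, a c = c → P.b c = c → g c = c) ∧ ∀ m, m⁻¹ * g m ∈ P.V := by
  induction hg using Subgroup.closure_induction with
  | mem x hx =>
    rcases hx with rfl | rfl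
    · exact ⟨fun c h _ => h, fun m => Subgroup.mem_sup_left (P.ta.2.2.2 m)⟩
    · exact ⟨fun c _ h => h, fun m => Subgroup.mem_sup_right (P.tb.2.2.2 m)⟩
  | one => exact ⟨fun c _ _ => rfl, fun m => by simp⟩
  | mul x y _ _ hx hy =>
    refine ⟨fun c h h' => by rw [MulAut.mul_apply, hy.1 c h h', hx.1 c h h'], fun m => ?_⟩
    have := mul_mem (hy.2 m) (hx.2 (y m))
    simpa [mul_assoc] using this
  | inv x _ hx =>
    refine ⟨fun c h h' => ?_, fun m => ?_⟩
    · conv_lhs => rw [← hx.1 c h h', MulAut.inv_apply_self]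
    · have := inv_mem (hx.2 (x⁻¹ m))
      rw [MulAut.apply_inv_self, mul_inv_rev, inv_inv] at this
      exact this

theorem TvPair.decomp (P : TvPair p A a) [Fact p.Prime] (m : M) :
    ∃ c : M, ∃ i j : ℤ, a c = c ∧ P.b c = c ∧ m = c * P.u ^ i * P.w ^ j := by
  obtain ⟨i, hi⟩ := Subgroup.mem_zpowers_iff.1 (P.ta.2.2.2 m)
  obtain ⟨k, hk⟩ := Subgroup.mem_zpowers_iff.1 (P.tb.2.2.2 m)
  refine ⟨m * P.u ^ k * (P.w ^ i)⁻¹, -k, i, ?_, ?_, ?_⟩
  · have e : a m = m * P.u ^ i := by rw [hi]; simp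
    rw [map_mul, map_mul, map_inv, apply_zpow_fix P.ta.2.2.1, map_zpow, P.haw, e, mul_zpow, mul_inv_rev]
    apply Additive.ofMul.injective
    simp only [ofMul_mul, ofMul_inv]
    abel
  · have e : P.b m = m * P.w ^ k := by rw [hk]; simp
    rw [map_mul, map_mul, map_inv, apply_zpow_fix P.tb.2.2.1, map_zpow, P.hbu, e, mul_zpow, inv_zpow]
    simp [mul_assoc, mul_comm, mul_left_comm]
  · simp [mul_assoc, mul_comm, mul_left_comm]

/-- The square of `a b a` inverts the plane. -/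
theorem TvPair.exists_inversion (P : TvPair p A a) [Fact p.Prime] :
    ∃ t ∈ P.L, t P.u = P.u⁻¹ ∧ t P.w = P.w⁻¹ ∧ Commute t a := by
  have ha : a ∈ P.L := Subgroup.subset_closure (Or.inl rfl)
  have hb : P.b ∈ P.L := Subgroup.subset_closure (Or.inr rfl)
  set s := a * P.b * a
  have hs : s ∈ P.L := mul_mem (mul_mem ha hb) ha
  have hsu : s P.u = P.w⁻¹ := by
    rw [MulAut.mul_apply, MulAut.mul_apply, P.ta.2.2.1, P.hbu, map_mul, map_inv, P.ta.2.2.1, P.haw, mul_inv_rev]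
    simp [mul_comm, mul_left_comm]
  have hsw : s P.w = P.u := by
    rw [MulAut.mul_apply, MulAut.mul_apply, P.haw, map_mul, P.tb.2.2.1, P.hbu, map_mul, P.haw, map_mul, map_inv,
      P.ta.2.2.1, P.haw, mul_inv_rev]
    simp [mul_assoc, mul_comm, mul_left_comm]
  have htu : (s * s) P.u = P.u⁻¹ := by rw [MulAut.mul_apply, hsu, map_inv, hsw]
  have htw : (s * s) P.w = P.w⁻¹ := by rw [MulAut.mul_apply, hsw, hsu]
  refine ⟨s * s, mul_mem hs hs, htu, htw, MulEquiv.ext fun m => ?_⟩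
  show (s * s) (a m) = a ((s * s) m)
  obtain ⟨c, i, j, hca, hcb, rfl⟩ := P.decomp m
  have htc : (s * s) c = c := (P.L_move (mul_mem hs hs)).1 c hca hcb
  simp only [map_mul, map_zpow, map_inv, hca, htc, htu, htw, P.ta.2.2.1, P.haw, inv_zpow, mul_zpow, mul_inv_rev]
  simp [mul_assoc, mul_comm, mul_left_comm]

/-- Every element of order `p` is conjugate under the pair to a power of `a`. -/
theorem TvPair.cover (P : TvPair p A a) [Fact p.Prime] (hA : IsTvGroup p A) (haA : a ∈ A)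
    (hap : a ^ p = 1) (ha1 : a ≠ 1) {c : MulAut M} (hcA : c ∈ A) (hcp : c ^ p = 1) :
    ∃ g ∈ P.L, c ∈ Subgroup.zpowers (g * a * g⁻¹) := by
  have ha : a ∈ P.L := Subgroup.subset_closure (Or.inl rfl)
  have hb : P.b ∈ P.L := Subgroup.subset_closure (Or.inr rfl)
  by_cases hc1 : c = 1
  · exact ⟨1, one_mem _, by rw [hc1]; exact one_mem _⟩
  obtain ⟨z, hz⟩ := hA.1 c hcA hcp hc1
  obtain ⟨c₀, i, j, hca, hcb, hzeq⟩ := P.decomp z
  by_cases hj : P.w ^ j = 1
  · have h1 : a z = z := by rw [hzeq, hj, mul_one, map_mul, hca, apply_zpow_fix P.ta.2.2.1]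
    have hcomm := commute_of_fix hA hcA haA hap ha1 hz P.ta h1
    exact ⟨1, one_mem _, by simpa using hA.2 a haA c hcA hap hcp ha1 hcomm.symm⟩
  -- `b` is conjugate to a power of `a`
  have hbconj : ∃ g ∈ P.L, P.b ∈ Subgroup.zpowers (g * a * g⁻¹) := by
    set s := a * P.b * a
    have hs : s ∈ P.L := mul_mem (mul_mem ha hb) ha
    have hsu : s P.u = P.w⁻¹ := by
      rw [MulAut.mul_apply, MulAut.mul_apply, P.ta.2.2.1, P.hbu, map_mul, map_inv, P.ta.2.2.1, P.haw, mul_inv_rev]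
      simp [mul_comm, mul_left_comm]
    have hsA := P.L_le haA hs
    have hca' : s * a * s⁻¹ ∈ A := mul_mem (mul_mem hsA haA) (inv_mem hsA)
    have h1 : P.b (s P.u) = s P.u := by rw [hsu, map_inv, P.tb.2.2.1]
    have hcomm := commute_of_fix hA hca' P.hbA P.hbp P.hb1 (P.ta.conj s) P.tb h1
    exact ⟨s, hs, hA.2 _ hca' P.b P.hbA (pow_conj_eq_one s hap) P.hbp
      (fun h => ha1 (conj_eq_one_iff.1 h)) hcomm⟩
  obtain ⟨g, hg, hbg⟩ := hbconj
  -- move the line of `c` into the fixed points of a conjugate of `b`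
  have hwj : Subgroup.zpowers (P.w ^ j) = Subgroup.zpowers P.w :=
    zpowers_eq_of_mem P.tb.2.1 (Subgroup.zpow_mem _ (Subgroup.mem_zpowers _) j) hj
  obtain ⟨l, hl⟩ := Subgroup.mem_zpowers_iff.1 (hwj.symm ▸ Subgroup.mem_zpowers P.w : P.w ∈ Subgroup.zpowers (P.w ^ j))
  have hak : ∀ k : ℤ, (a ^ k) P.u = P.u ∧ (a ^ k) P.w = P.w * P.u ^ k := by
    intro k
    induction k using Int.induction_on with
    | zero => simp
    | succ n ih =>
      rw [zpow_add_one, MulAut.mul_apply, MulAut.mul_apply, P.ta.2.2.1, P.haw, map_mul, ih.1, ih.2, zpow_add_one]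
      exact ⟨rfl, by simp [mul_assoc]⟩
    | pred n ih =>
      have e : a⁻¹ P.w = P.w * P.u⁻¹ := by
        apply a.injective
        rw [MulAut.apply_inv_self, map_mul, map_inv, P.ta.2.2.1, P.haw]
        simp
      have e' : a⁻¹ P.u = P.u := by
        conv_lhs => rw [← P.ta.2.2.1, MulAut.inv_apply_self]
      rw [zpow_sub_one, MulAut.mul_apply, MulAut.mul_apply, e, e', map_mul, map_inv, ih.1, ih.2, zpow_sub_one]
      exact ⟨rfl, by simp [mul_assoc]⟩
  set h := a ^ (i * l)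
  have hh : h ∈ P.L := zpow_mem ha _
  have hhA := P.L_le haA hh
  have hfix : (h * P.b * h⁻¹) z = z := by
    have e : h (c₀ * P.w ^ j) = z := by
      rw [map_mul, map_zpow, (P.L_move hh).1 c₀ hca hcb, (hak _).2, mul_zpow, ← zpow_mul, hzeq]
      have e1 : P.u ^ (i * l * j) = P.u ^ i := by
        have ho : orderOf P.u = p := orderOf_eq_prime P.ta.2.1 P.ta.1
        have how : orderOf P.w = p := orderOf_eq_prime P.tb.2.1 P.tb.1
        rw [zpow_eq_zpow_iff_modEq, ho]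
        have h3 : P.w ^ (j * l) = P.w ^ (1 : ℤ) := by rw [zpow_mul, hl, zpow_one]
        rw [zpow_eq_zpow_iff_modEq, how] at h3
        have := h3.mul_left i
        rwa [mul_one, ← mul_assoc, mul_right_comm] at this
      rw [e1]
      simp [mul_assoc, mul_comm, mul_left_comm]
    rw [← e, MulAut.mul_apply, MulAut.mul_apply, MulAut.inv_apply_self, map_mul, hcb, apply_zpow_fix P.tb.2.2.1]
  have hbA' : h * P.b * h⁻¹ ∈ A := mul_mem (mul_mem hhA P.hbA) (inv_mem hhA)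
  have hbp' := pow_conj_eq_one h P.hbp
  have hb1' : h * P.b * h⁻¹ ≠ 1 := fun e => P.hb1 (conj_eq_one_iff.1 e)
  have hcomm := commute_of_fix hA hcA hbA' hbp' hb1' hz (P.tb.conj h) hfix
  refine ⟨h * g, mul_mem hh hg, ?_⟩
  have hmem := hA.2 _ hbA' c hcA hbp' hcp hb1' hcomm.symm
  refine Subgroup.zpowers_le.2 ?_ hmem
  obtain ⟨k, hk⟩ := Subgroup.mem_zpowers_iff.1 hbg
  refine Subgroup.mem_zpowers_iff.2 ⟨k, ?_⟩
  rw [conj_zpow, ← hk, conj_zpow]
  group

theorem TvPair.mem_fixC (P : TvPair p A a) [Fact p.Prime] (hA : IsTvGroup p A) (haA : a ∈ A)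
    (hap : a ^ p = 1) (ha1 : a ≠ 1) {c : M} : c ∈ fixC p A ↔ a c = c ∧ P.b c = c := by
  refine ⟨fun h => ⟨h a haA hap, h P.b P.hbA P.hbp⟩, fun ⟨h1, h2⟩ d hd hdp => ?_⟩
  obtain ⟨g, hg, hdg⟩ := P.cover hA haA hap ha1 hd hdp
  have hdL : d ∈ P.L :=
    Subgroup.zpowers_le.2 (mul_mem (mul_mem hg (Subgroup.subset_closure (Or.inl rfl))) (inv_mem hg)) hdg
  exact (P.L_move hdL).1 c h1 h2

theorem TvPair.exists_normalizing (P : TvPair p A a) [Fact p.Prime] (hA : IsTvGroup p A) (haA : a ∈ A)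
    (hap : a ^ p = 1) (ha1 : a ≠ 1) {β : MulAut M} (hβ : β ∈ A) :
    ∃ g ∈ P.L, (g⁻¹ * β) * a * (g⁻¹ * β)⁻¹ ∈ Subgroup.zpowers a := by
  obtain ⟨g, hg, hmem⟩ := P.cover hA haA hap ha1 (mul_mem (mul_mem hβ haA) (inv_mem hβ)) (pow_conj_eq_one β hap)
  obtain ⟨k, hk⟩ := Subgroup.mem_zpowers_iff.1 hmem
  refine ⟨g, hg, Subgroup.mem_zpowers_iff.2 ⟨k, ?_⟩⟩
  rw [show g⁻¹ * β * a * (g⁻¹ * β)⁻¹ = g⁻¹ * (β * a * β⁻¹) * g by group, ← hk, conj_zpow]
  group

end Cfsg.Agent.Lib.FusionIndex
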